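import Cfsg.Agent.Coprime.Basic
import Cfsg.Agent.Coprime.Generation
import Mathlib.GroupTheory.QuotientGroup.Basic
import Mathlib.GroupTheory.Nilpotent

/-!
# Elementary abelian groups acting coprimely: generation and fixed points
-/

set_option autoImplicit false
set_option linter.unusedSectionVars false
set_option linter.style.haveILetI false

namespace CfsgLib.CentClass

open Subgroup

universe u v

variable {G : Type u} [Group G] {A : Type v} [CommGroup A] (φ : A →* MulAut G)

/-- The fixed subgroup of one element. -/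
abbrev fx (a : A) : Subgroup G := (φ a).toMonoidHom.eqLocus (MonoidHom.id G)

theorem mem_fx {a : A} {g : G} : g ∈ fx φ a ↔ φ a g = g := Iff.rfl

/-- The fixed subgroup of a set of elements. -/
def fxAll (E : Subgroup A) : Subgroup G := ⨅ a ∈ E, fx φ a

theorem mem_fxAll {E : Subgroup A} {g : G} : g ∈ fxAll φ E ↔ ∀ a ∈ E, φ a g = g := by
  simp only [fxAll, Subgroup.mem_iInf, mem_fx]

/-- Invariance. -/
def Inv (U : Subgroup G) : Prop := ∀ a : A, ∀ u ∈ U, φ a u ∈ U

theorem inv_top : Inv φ (⊤ : Subgroup G) := fun _ _ _ => mem_top _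

theorem Inv.inf {U V : Subgroup G} (hU : Inv φ U) (hV : Inv φ V) : Inv φ (U ⊓ V) :=
  fun a u hu => ⟨hU a u hu.1, hV a u hu.2⟩

theorem Inv.commutator {U V : Subgroup G} (hU : Inv φ U) (hV : Inv φ V) : Inv φ ⁅U, V⁆ := by
  intro a u hu
  have : (⁅U, V⁆).map (φ a).toMonoidHom ≤ ⁅U, V⁆ := by
    rw [map_commutator]
    refine commutator_mono ?_ ?_ <;> rw [map_le_iff_le_comap]
    exacts [hU a, hV a]
  exact this ⟨u, hu, rfl⟩

theorem inv_fxAll (E : Subgroup A) : Inv φ (fxAll φ E) := fun a u hu => by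
  rw [mem_fxAll] at hu ⊢
  intro b hb
  rw [← MulAut.mul_apply, ← map_mul, mul_comm, map_mul, MulAut.mul_apply, hu b hb]

theorem inv_of_characteristic (U : Subgroup G) [U.Characteristic] : Inv φ U := fun a u hu => by
  have h := characteristic_iff_map_le.1 (inferInstance : U.Characteristic) (φ a)
  exact h ⟨u, hu, rfl⟩

/-- The restricted action. -/
def restr {U : Subgroup G} (hU : Inv φ U) : A →* MulAut U where
  toFun a :=
    { toFun := fun u => ⟨φ a u, hU a u u.2⟩
      invFun := fun u => ⟨φ a⁻¹ u, hU a⁻¹ u u.2⟩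
      left_inv := fun u => Subtype.ext (by
        show φ a⁻¹ (φ a (u : G)) = u
        rw [← MulAut.mul_apply, ← map_mul, inv_mul_cancel, map_one, MulAut.one_apply])
      right_inv := fun u => Subtype.ext (by
        show φ a (φ a⁻¹ (u : G)) = u
        rw [← MulAut.mul_apply, ← map_mul, mul_inv_cancel, map_one, MulAut.one_apply])
      map_mul' := fun u v => Subtype.ext (map_mul (φ a) (u : G) v) }
  map_one' := MulEquiv.ext fun u => Subtype.ext (by
    show φ 1 (u : G) = u
    rw [map_one, MulAut.one_apply])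
  map_mul' a b := MulEquiv.ext fun u => Subtype.ext (by
    show φ (a * b) (u : G) = φ a (φ b (u : G))
    rw [map_mul, MulAut.mul_apply])

theorem restr_apply {U : Subgroup G} (hU : Inv φ U) (a : A) (u : U) :
    ((restr φ hU a u : U) : G) = φ a u := rfl

/-- Standing hypotheses: `A` elementary abelian, `G` finite of prime to `p` order. -/
structure Hyp (p : ℕ) : Prop where
  prime : p.Prime
  exp : ∀ a : A, a ^ p = 1
  cop : (Nat.card G).Coprime p

variable {φ} {p : ℕ} [Finite A] [Finite G]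

theorem Hyp.card_cop (h : Hyp (G := G) (A := A) p) : (Nat.card A).Coprime (Nat.card G) := by
  haveI := Fact.mk h.prime
  obtain ⟨k, hk⟩ := IsPGroup.iff_card.1 (fun a : A => ⟨1, by rw [pow_one]; exact h.exp a⟩ : IsPGroup p A)
  rw [hk]
  exact h.cop.symm.pow_left k

theorem Hyp.not_cyclic (h : Hyp (G := G) (A := A) p) (h2 : p ^ 2 ≤ Nat.card A) : ¬ IsCyclic A := by
  intro hc
  have h1 : Nat.card A ∣ p := hc.exponent_eq_card ▸ Monoid.exponent_dvd_of_forall_pow_eq_one h.exp
  have := Nat.le_of_dvd h.prime.pos h1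
  have h3 := h.prime.two_le
  nlinarith

/-- Fixed points in invariant cosets. -/
theorem exists_fixed_in_coset (h : Hyp (G := G) (A := A) p) {N : Subgroup G} (hN : Inv φ N) (g : G)
    (hg : ∀ a, g⁻¹ * φ a g ∈ N) : ∃ c, (∀ a, φ a c = c) ∧ g⁻¹ * c ∈ N := by
  letI : MulDistribMulAction A G := MulDistribMulAction.compHom G φ
  obtain ⟨c, hc, hc'⟩ := Coprime.exists_fixed_mem_coset_of_isSolvable (A := A) N hN
    (h.card_cop.coprime_dvd_right (card_subgroup_dvd_card N)) g hg
  exact ⟨c, hc, hc'⟩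

/-- Fixed points of one element in an invariant coset. -/
theorem exists_fixed_in_coset_one (h : Hyp (G := G) (A := A) p) {N : Subgroup G} (hN : Inv φ N)
    (g : G) (a : A) (hg : g⁻¹ * φ a g ∈ N) : ∃ c, φ a c = c ∧ g⁻¹ * c ∈ N := by
  set ψ : (zpowers a) →* MulAut G := φ.comp (zpowers a).subtype
  have h' : Hyp (G := G) (A := zpowers a) p :=
    ⟨h.prime, fun x => Subtype.ext (by simpa using h.exp x), h.cop⟩
  let S : Subgroup A :=
    { carrier := {b | g⁻¹ * φ b g ∈ N}
      one_mem' := by simp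
      mul_mem' := fun {b c} hb hc => by
        show g⁻¹ * φ (b * c) g ∈ N
        have e : g⁻¹ * φ (b * c) g = (g⁻¹ * φ b g) * φ b (g⁻¹ * φ c g) := by
          rw [map_mul φ, MulAut.mul_apply, map_mul, map_inv]; group
        rw [e]
        exact mul_mem hb (hN b _ hc)
      inv_mem' := fun {b} hb => by
        show g⁻¹ * φ b⁻¹ g ∈ N
        have e : g⁻¹ * φ b⁻¹ g = (φ b⁻¹ (g⁻¹ * φ b g))⁻¹ := by
          rw [map_mul, ← MulAut.mul_apply, ← map_mul φ, inv_mul_cancel, map_one φ, MulAut.one_apply,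
            map_inv (φ b⁻¹) g, mul_inv_rev, inv_inv]
        rw [e]
        exact inv_mem (hN _ _ hb) }
  have hS : zpowers a ≤ S := zpowers_le.2 hg
  obtain ⟨c, hc, hc'⟩ := exists_fixed_in_coset (φ := ψ) h' (N := N) (fun b u hu => hN b u hu) g
    (fun b => hS b.2)
  exact ⟨c, hc ⟨a, mem_zpowers a⟩, hc'⟩

/-- An invariant subgroup is generated by the fixed points of the nontrivial elements of a
noncyclic subgroup. -/
theorem Hyp.le_closure_of_rank_two (h : Hyp (G := G) (A := A) p) {U : Subgroup G} {B : Subgroup A}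
    (hU : ∀ b ∈ B, ∀ u ∈ U, φ b u ∈ U) (hB : p ^ 2 ≤ Nat.card B) :
    U ≤ closure {g | g ∈ U ∧ ∃ b ∈ B, b ≠ 1 ∧ φ b g = g} := by
  set ψ : B →* MulAut G := φ.comp B.subtype
  have hU' : Inv ψ U := fun b u hu => hU b b.2 u hu
  letI : MulDistribMulAction B U := MulDistribMulAction.compHom U (restr ψ hU')
  have h' : Hyp (G := U) (A := B) p := ⟨h.prime, fun x => Subtype.ext (by simpa using h.exp x),
    h.cop.coprime_dvd_left (card_subgroup_dvd_card U)⟩
  have htop := Coprime.closure_fixed_eq_top (G := U) (A := B) (h'.not_cyclic hB) h'.card_cop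
  intro u hu
  have hmem : (⟨u, hu⟩ : U) ∈ (⊤ : Subgroup U) := mem_top _
  rw [← htop] at hmem
  have h2 : u ∈ (closure {g : U | ∃ b : B, b ≠ 1 ∧ b • g = g}).map U.subtype := ⟨_, hmem, rfl⟩
  rw [MonoidHom.map_closure] at h2
  refine closure_mono ?_ h2
  rintro _ ⟨g, ⟨b, hb1, hbg⟩, rfl⟩
  exact ⟨g.2, b, b.2, fun hb => hb1 (Subtype.ext hb), congrArg Subtype.val hbg⟩

/-- `H` has index at most `p`. -/
def Hyper (p : ℕ) (H : Subgroup A) : Prop := Nat.card A ≤ p * Nat.card H

/-- An invariant subgroup is generated by the fixed points of hyperplanes. -/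
theorem Hyp.le_closure_hyper (h : Hyp (G := G) (A := A) p) :
    ∀ (E : Subgroup A) {U : Subgroup G}, Inv φ U →
      U ⊓ fxAll φ E ≤ closure {g | g ∈ U ∧ ∃ H, Hyper p H ∧ g ∈ fxAll φ H} := by
  intro E
  induction hn : Nat.card A - Nat.card E using Nat.strong_induction_on generalizing E with
  | _ n IH =>
  intro U hU
  by_cases hE : Hyper p E
  · exact fun g hg => subset_closure ⟨hg.1, E, hE, hg.2⟩
  set W := U ⊓ fxAll φ E with hW
  have hWi : Inv φ W := hU.inf φ (inv_fxAll φ E)
  have hker : E ≤ (restr φ hWi).ker := fun e he => MulEquiv.ext fun w =>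
    Subtype.ext (mem_fxAll φ |>.1 w.2.2 e he)
  set ψ : A ⧸ E →* MulAut W := QuotientGroup.lift E (restr φ hWi) hker
  have h' : Hyp (G := W) (A := A ⧸ E) p :=
    ⟨h.prime, fun x => by
      obtain ⟨a, rfl⟩ := QuotientGroup.mk_surjective x
      rw [← QuotientGroup.mk_pow, h.exp, QuotientGroup.mk_one],
    h.cop.coprime_dvd_left (card_subgroup_dvd_card W)⟩
  have hcard : p ^ 2 ≤ Nat.card (A ⧸ E) := by
    haveI := Fact.mk h.prime
    obtain ⟨k, hk⟩ := IsPGroup.iff_card.1 (fun x : A ⧸ E => ⟨1, by rw [pow_one]; exact h'.exp x⟩ :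
      IsPGroup p (A ⧸ E))
    rw [hk]
    refine Nat.pow_le_pow_right h.prime.pos ?_
    by_contra hlt
    apply hE
    rw [Hyper, card_eq_card_quotient_mul_card_subgroup E, hk]
    refine Nat.mul_le_mul_right _ ?_
    calc p ^ k ≤ p ^ 1 := Nat.pow_le_pow_right h.prime.pos (by omega)
      _ = p := pow_one p
  letI : MulDistribMulAction (A ⧸ E) W := MulDistribMulAction.compHom W ψ
  have htop := Coprime.closure_fixed_eq_top (G := W) (A := A ⧸ E) (h'.not_cyclic hcard) h'.card_cop
  intro u hu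
  have hmem : (⟨u, hu⟩ : W) ∈ (⊤ : Subgroup W) := mem_top _
  rw [← htop] at hmem
  have h2 : u ∈ (closure {g : W | ∃ b : A ⧸ E, b ≠ 1 ∧ b • g = g}).map W.subtype := ⟨_, hmem, rfl⟩
  rw [MonoidHom.map_closure] at h2
  refine (closure_le _).2 ?_ h2
  rintro _ ⟨g, ⟨b, hb1, hbg⟩, rfl⟩
  obtain ⟨a, rfl⟩ := QuotientGroup.mk_surjective b
  have haE : a ∉ E := fun ha => hb1 ((QuotientGroup.eq_one_iff _).2 ha)
  have hlt : Nat.card E < Nat.card (E ⊔ zpowers a : Subgroup A) := by
    refine lt_of_le_of_ne (card_le_of_le le_sup_left) fun he => haE ?_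
    rw [eq_of_le_of_card_ge (le_sup_left (a := E) (b := zpowers a)) he.ge]
    exact le_sup_right (a := E) (mem_zpowers a)
  have hle := card_le_card_group (E ⊔ zpowers a : Subgroup A)
  refine IH _ (by omega) (E ⊔ zpowers a) rfl hU ⟨g.2.1, mem_fxAll φ |>.2 ?_⟩
  intro c hc
  let S : Subgroup A :=
    { carrier := {c | φ c (g : G) = g}
      one_mem' := by simp
      mul_mem' := fun {b c} hb hc => by
        show φ (b * c) (g : G) = g
        rw [map_mul, MulAut.mul_apply, hc, hb]
      inv_mem' := fun {b} hb => by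
        show φ b⁻¹ (g : G) = g
        conv_lhs => rw [← hb]
        rw [← MulAut.mul_apply, ← map_mul, inv_mul_cancel, map_one, MulAut.one_apply] }
  exact (sup_le (fun e he => mem_fxAll φ |>.1 g.2.2 e he) (zpowers_le.2 (congrArg Subtype.val hbg)) :
    E ⊔ zpowers a ≤ S) hc

theorem Hyp.eq_closure_hyper (h : Hyp (G := G) (A := A) p) {U : Subgroup G} (hU : Inv φ U) :
    U ≤ closure {g | g ∈ U ∧ ∃ H, Hyper p H ∧ g ∈ fxAll φ H} := by
  intro u hu
  exact h.le_closure_hyper ⊥ hU ⟨hu, mem_fxAll φ |>.2 fun a ha => by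
    rw [mem_bot] at ha; rw [ha, map_one, MulAut.one_apply]⟩

/-- A subgroup of order at least `p ^ 2` meets every hyperplane. -/
theorem exists_mem_inf (hp : p.Prime) {B H : Subgroup A} (hB : p ^ 2 ≤ Nat.card B) (hH : Hyper p H) :
    ∃ a, a ∈ B ∧ a ∈ H ∧ a ≠ 1 := by
  obtain ⟨⟨b, hb⟩, hne⟩ : ∃ x : (B ⊓ H : Subgroup A), x ≠ 1 := by
    by_contra hno
    push Not at hno
    have hinj : Function.Injective (fun x : B × H => (x.1 : A) * x.2) := by
      rintro ⟨b, h⟩ ⟨b', h'⟩ he
      have he' : (b : A) * h = b' * h' := he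
      have e : (b' : A)⁻¹ * b = h' * (h : A)⁻¹ := by
        rw [eq_mul_inv_iff_mul_eq, mul_assoc, he', inv_mul_cancel_left]
      have h1 : (b' : A)⁻¹ * b ∈ B ⊓ H :=
        ⟨B.mul_mem (B.inv_mem b'.2) b.2, e ▸ H.mul_mem h'.2 (H.inv_mem h.2)⟩
      have h2 : (b' : A)⁻¹ * b = 1 := congrArg Subtype.val (hno ⟨_, h1⟩)
      have h3 : (h : A) = h' := by
        rw [h2] at e
        exact (mul_inv_eq_one.1 e.symm).symm
      exact Prod.ext (Subtype.ext (inv_mul_eq_one.1 h2).symm) (Subtype.ext h3)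
    have h1 := Nat.card_le_card_of_injective _ hinj
    rw [Nat.card_prod] at h1
    have h2 : Nat.card B * Nat.card H ≤ p * Nat.card H := h1.trans hH
    have h3 := Nat.le_of_mul_le_mul_right h2 Nat.card_pos
    have := hp.two_le
    nlinarith
  exact ⟨b, hb.1, hb.2, fun h => hne (Subtype.ext h)⟩

end CfsgLib.CentClass
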