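import Mathlib.Algebra.Lie.Basic
import Mathlib.Data.List.Perm.Basic
import Mathlib.Data.Fintype.Card
import Mathlib.Algebra.BigOperators.Group.Finset.Basic
import Cfsg.Agent.FGSA.LieFamily

/-!
# Lie subrings with nilpotent adjoint action

`AdNil S N` says that every product of `N` adjoint maps of elements of `S` is zero.
-/

set_option autoImplicit false

namespace CfsgLib.CentClass

open AddSubgroup CfsgLib.LieFamily

variable {L : Type*} [LieRing L]

/-- The span of the brackets of two subgroups. -/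
def brk (P Q : AddSubgroup L) : AddSubgroup L :=
  closure {v | ∃ x ∈ P, ∃ y ∈ Q, v = ⁅x, y⁆}

theorem mem_brk {P Q : AddSubgroup L} {x y : L} (hx : x ∈ P) (hy : y ∈ Q) : ⁅x, y⁆ ∈ brk P Q :=
  subset_closure ⟨x, hx, y, hy, rfl⟩

theorem brk_le_iff {P Q S : AddSubgroup L} : brk P Q ≤ S ↔ ∀ x ∈ P, ∀ y ∈ Q, ⁅x, y⁆ ∈ S :=
  ⟨fun h _ hx _ hy => h (mem_brk hx hy), fun h => by
    rw [brk, closure_le]; rintro v ⟨x, hx, y, hy, rfl⟩; exact h x hx y hy⟩

theorem brk_mono {P P' Q Q' : AddSubgroup L} (hP : P ≤ P') (hQ : Q ≤ Q') : brk P Q ≤ brk P' Q' :=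
  brk_le_iff.2 fun _ hx _ hy => mem_brk (hP hx) (hQ hy)

/-- Iterated brackets of `M` with `S`. -/
def adImg (M S : AddSubgroup L) : ℕ → AddSubgroup L
  | 0 => M
  | n + 1 => brk (adImg M S n) S

theorem adImg_mono {M M' S S' : AddSubgroup L} (hM : M ≤ M') (hS : S ≤ S') :
    ∀ n, adImg M S n ≤ adImg M' S' n
  | 0 => hM
  | n + 1 => brk_mono (adImg_mono hM hS n) hS

theorem adImg_add (M S : AddSubgroup L) (a : ℕ) :
    ∀ b, adImg M S (a + b) = adImg (adImg M S a) S b
  | 0 => rfl
  | b + 1 => by rw [← add_assoc]; simp only [adImg, adImg_add M S a b]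

theorem adImg_bot (S : AddSubgroup L) : ∀ n, adImg (⊥ : AddSubgroup L) S n = ⊥
  | 0 => rfl
  | n + 1 => by
    rw [adImg, adImg_bot S n, eq_bot_iff, brk_le_iff]
    intro x hx y _
    rw [mem_bot] at hx
    simp [hx]

/-- Products of `N` adjoint maps of elements of `S` vanish. -/
def AdNil (S : AddSubgroup L) (N : ℕ) : Prop := adImg ⊤ S N = ⊥

theorem AdNil.mono {S S' : AddSubgroup L} {N N' : ℕ} (h : AdNil S N) (hS : S' ≤ S) (hN : N ≤ N') :
    AdNil S' N' := by
  obtain ⟨b, rfl⟩ := Nat.exists_eq_add_of_le hN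
  rw [AdNil, eq_bot_iff, adImg_add]
  refine (adImg_mono ((adImg_mono le_rfl hS N).trans h.le) le_rfl b).trans ?_
  rw [adImg_bot]

theorem adNil_bot : AdNil (⊥ : AddSubgroup L) 1 := by
  rw [AdNil, eq_bot_iff, adImg, brk_le_iff]
  intro x _ y hy
  rw [mem_bot] at hy
  simp [hy]

theorem lmul_zero : ∀ l : List L, lmul (0 : L) l = 0
  | [] => rfl
  | x :: l => by
    show lmul ⁅(0 : L), x⁆ l = 0
    rw [zero_lie]; exact lmul_zero l

theorem lmul_add : ∀ (l : List L) (x y : L), lmul (x + y) l = lmul x l + lmul y l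
  | [], _, _ => rfl
  | z :: l, x, y => by
    show lmul ⁅x + y, z⁆ l = lmul ⁅x, z⁆ l + lmul ⁅y, z⁆ l
    rw [add_lie, lmul_add l]

theorem lmul_mem_adImg {M S : AddSubgroup L} {v : L} (hv : v ∈ M) :
    ∀ {l : List L}, (∀ x ∈ l, x ∈ S) → lmul v l ∈ adImg M S l.length := by
  intro l
  induction l using List.reverseRecOn with
  | nil => exact fun _ => hv
  | append_singleton l x ih =>
    intro h
    rw [List.length_append, List.length_singleton, lmul, List.foldl_append]
    exact mem_brk (ih fun y hy => h y (by simp [hy])) (h x (by simp))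

theorem AdNil.lmul_eq_zero {S : AddSubgroup L} {N : ℕ} (h : AdNil S N) (v : L) {l : List L}
    (hN : N ≤ l.length) (hl : ∀ x ∈ l, x ∈ S) : lmul v l = 0 :=
  (mem_bot).1 ((h.mono le_rfl hN).le (lmul_mem_adImg (mem_top v) hl))

/-- Generators of an iterated bracket when `S` is spanned by `X`. -/
theorem adImg_le_closure_lmul {M S : AddSubgroup L} {X : Set L} (hS : S ≤ closure X) (n : ℕ) :
    adImg M S n ≤ closure {w | ∃ v ∈ M, ∃ l : List L, l.length = n ∧ (∀ x ∈ l, x ∈ X) ∧
      w = lmul v l} := by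
  induction n with
  | zero => exact fun x hx => subset_closure ⟨x, hx, [], rfl, by simp, rfl⟩
  | succ n ih =>
    rw [adImg, brk_le_iff]
    intro x hx y hy
    refine lie_mem_closure_left (ih hx) ?_
    rintro w ⟨v, hv, l, hl, hlX, rfl⟩
    refine lie_mem_closure_right (hS hy) fun z hz => subset_closure ⟨v, hv, l ++ [z], by simp [hl], ?_, ?_⟩
    · simp only [List.mem_append, List.mem_singleton]
      rintro u (hu | rfl)
      exacts [hlX u hu, hz]
    · simp [lmul]

theorem adImg_invariant {M Z Z' : AddSubgroup L} (hM : brk M Z ≤ M) (hZ' : brk Z' Z ≤ Z') :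
    ∀ j, brk (adImg M Z' j) Z ≤ adImg M Z' j
  | 0 => hM
  | j + 1 => by
    rw [adImg, brk_le_iff]
    intro x hx z hz
    refine lie_mem_closure_left hx ?_
    rintro w ⟨u, hu, y, hy, rfl⟩
    rw [lie_lie, ← lie_skew y ⁅u, z⁆, sub_neg_eq_add]
    exact add_mem (mem_brk hu (hZ' (mem_brk hy hz)))
      (mem_brk (adImg_invariant hM hZ' j (mem_brk hu hz)) hy)

theorem exists_long_fibre {ι α : Type*} [Fintype ι] [DecidableEq ι] (f : α → ι) (m : ℕ) (l : List α)
    (h : Fintype.card ι * m + 1 ≤ l.length) :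
    ∃ i, m + 1 ≤ (l.filter fun a => decide (f a = i)).length := by
  by_contra hno
  push Not at hno
  have hsum : ∑ i, (l.filter fun a => decide (f a = i)).length = l.length := by
    clear h hno
    induction l with
    | nil => simp
    | cons a l ih =>
      have e : ∀ i, ((a :: l).filter fun a => decide (f a = i)).length =
          (l.filter fun a => decide (f a = i)).length + if f a = i then 1 else 0 := fun i => by
        by_cases hi : f a = i <;> simp [List.filter_cons, hi]
      simp only [e, Finset.sum_add_distrib, ih, Finset.sum_ite_eq, Finset.mem_univ, if_true,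
        List.length_cons]
  have := Finset.sum_le_sum (s := Finset.univ) fun i _ => Nat.le_of_lt_succ (hno i)
  rw [hsum, Finset.sum_const, smul_eq_mul, Finset.card_univ] at this
  omega

variable {ι : Type*} [Fintype ι] (Y : ι → AddSubgroup L) {m : ℕ}

/-- One layer: if `Z` is spanned by boundedly many pieces with nilpotent action and `[Z,Z]` lies in
a `Z`-invariant `Z'` with nilpotent action, then `Z` acts nilpotently. -/
theorem AdNil.step (hY : ∀ i, AdNil (Y i) (m + 1)) {Z Z' : AddSubgroup L}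
    (hspan : Z ≤ closure {x | ∃ i, x ∈ Y i ∧ x ∈ Z}) (hZZ : brk Z Z ≤ Z') (hZ' : brk Z' Z ≤ Z')
    {f : ℕ} (hf : AdNil Z' f) : AdNil Z ((Fintype.card ι * m + 1) * f) := by
  classical
  set g := Fintype.card ι * m + 1 with hg
  have hT : brk (⊤ : AddSubgroup L) Z ≤ ⊤ := le_top
  have hinv : ∀ j, brk (adImg ⊤ Z' j) Z ≤ adImg ⊤ Z' j := adImg_invariant hT hZ'
  have hlmul : ∀ j v, v ∈ adImg ⊤ Z' j → ∀ l : List L, (∀ x ∈ l, x ∈ Z) →
      lmul v l ∈ adImg ⊤ Z' j := by
    intro j v hv l
    induction l generalizing v with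
    | nil => exact fun _ => hv
    | cons x l ih =>
      intro h
      exact ih _ (hinv j (mem_brk hv (h x (by simp)))) fun y hy => h y (by simp [hy])
  have hperm : ∀ {l l' : List L}, l.Perm l' → ∀ j v, v ∈ adImg ⊤ Z' j → (∀ x ∈ l, x ∈ Z) →
      lmul v l - lmul v l' ∈ adImg ⊤ Z' (j + 1) := by
    intro l l' h
    induction h with
    | nil => intro j v _ _; simp
    | cons x _ ih =>
      intro j v hv hl
      exact ih j _ (hinv j (mem_brk hv (hl x (by simp)))) fun y hy => hl y (by simp [hy])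
    | swap x y l =>
      intro j v hv hl
      show lmul ⁅⁅v, y⁆, x⁆ l - lmul ⁅⁅v, x⁆, y⁆ l ∈ _
      have e : ⁅⁅v, y⁆, x⁆ = ⁅⁅v, x⁆, y⁆ + ⁅v, ⁅y, x⁆⁆ := by
        rw [leibniz_lie v y x, ← lie_skew y ⁅v, x⁆]; abel
      rw [e, lmul_add, add_sub_cancel_left]
      exact hlmul (j + 1) _ (mem_brk hv (hZZ (mem_brk (hl y (by simp)) (hl x (by simp))))) l
        fun z hz => hl z (by simp [hz])
    | trans h₁ _ ih₁ ih₂ =>
      intro j v hv hl
      have := add_mem (ih₁ j v hv hl) (ih₂ j v hv fun x hx => hl x (h₁.mem_iff.2 hx))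
      rwa [sub_add_sub_cancel] at this
  have hgood : ∀ j, adImg (adImg ⊤ Z' j) Z g ≤ adImg ⊤ Z' (j + 1) := by
    intro j
    refine (adImg_le_closure_lmul hspan g).trans ?_
    rw [closure_le]
    rintro w ⟨v, hv, l, hl, hlX, rfl⟩
    have hlZ : ∀ x ∈ l, x ∈ Z := fun x hx => by
      obtain ⟨i, -, h2⟩ := hlX x hx
      exact h2
    rcases isEmpty_or_nonempty ι with hι | hι
    · rcases l with _ | ⟨x, l⟩
      · simp at hl
      · obtain ⟨i, -⟩ := hlX x (by simp)
        exact hι.elim i
    let idx : L → ι := fun x => if h : ∃ i, x ∈ Y i then h.choose else Classical.arbitrary ι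
    have hidx : ∀ x ∈ l, x ∈ Y (idx x) := fun x hx => by
      obtain ⟨i, h1, -⟩ := hlX x hx
      have h : ∃ i, x ∈ Y i := ⟨i, h1⟩
      simp only [idx, dif_pos h]
      exact h.choose_spec
    obtain ⟨i, hi⟩ := exists_long_fibre idx m l (by omega)
    set l₁ := l.filter fun a => decide (idx a = i) with hl₁
    set l₂ := l.filter fun a => !decide (idx a = i) with hl₂
    have hp : l.Perm (l₁ ++ l₂) := (List.filter_append_perm _ l).symm
    have h0 : lmul v (l₁ ++ l₂) = 0 := by
      have h1 : lmul v l₁ = 0 := (hY i).lmul_eq_zero v hi fun x hx => by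
        rw [hl₁, List.mem_filter, decide_eq_true_eq] at hx
        exact hx.2 ▸ hidx x hx.1
      show List.foldl _ v (l₁ ++ l₂) = 0
      rw [List.foldl_append]
      show lmul (lmul v l₁) l₂ = 0
      rw [h1, lmul_zero]
    have := hperm hp j v hv hlZ
    rwa [h0, sub_zero] at this
  have hall : ∀ j, adImg ⊤ Z (g * j) ≤ adImg ⊤ Z' j := by
    intro j
    induction j with
    | zero => exact le_top
    | succ j ih =>
      rw [Nat.mul_succ, adImg_add]
      exact (adImg_mono ih le_rfl g).trans (hgood j)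
  exact eq_bot_iff.2 ((hall f).trans hf.le)

/-- The derived series of a subgroup. -/
def dser (K : AddSubgroup L) : ℕ → AddSubgroup L
  | 0 => K
  | i + 1 => brk (dser K i) (dser K i)

theorem dser_succ_le {K : AddSubgroup L} (hK : brk K K ≤ K) : ∀ i, dser K (i + 1) ≤ dser K i
  | 0 => hK
  | i + 1 => brk_mono (dser_succ_le hK i) (dser_succ_le hK i)

/-- A bound on the length of nilpotent products. -/
def layerBound (t m l : ℕ) : ℕ := (t * m + 1) ^ l

/-- A soluble subring spanned layer by layer by pieces with nilpotent action acts nilpotently. -/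
theorem AdNil.of_dser (hY : ∀ i, AdNil (Y i) (m + 1)) {K : AddSubgroup L} (hK : brk K K ≤ K)
    (hspan : ∀ j, dser K j ≤ closure {x | ∃ i, x ∈ Y i ∧ x ∈ dser K j})
    {l : ℕ} (hl : dser K l = ⊥) : AdNil K (layerBound (Fintype.card ι) m l) := by
  have h : ∀ i, i ≤ l → AdNil (dser K (l - i)) (layerBound (Fintype.card ι) m i) := by
    intro i
    induction i with
    | zero =>
      intro _
      rw [Nat.sub_zero, hl, layerBound, pow_zero]
      exact adNil_bot
    | succ i ih =>
      intro hi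
      have e : l - i = l - (i + 1) + 1 := by omega
      have h1 := ih (by omega)
      rw [e] at h1
      rw [layerBound, pow_succ']
      exact AdNil.step Y hY (hspan _) le_rfl
        (brk_le_iff.2 fun x hx y hy => mem_brk (dser_succ_le hK _ hx) hy) h1
  simpa [dser] using h l le_rfl

end CfsgLib.CentClass
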