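import Cfsg.Agent.CentClass.AdNil

/-!
# Kreknin's theorem with a nilpotently acting zero component
-/

set_option autoImplicit false

namespace CfsgLib.CentClass

open AddSubgroup CfsgLib.LieFamily

variable {L : Type*} [LieRing L] {n : ℕ} {P : ZMod n → AddSubgroup L}

/-- A family closed under the bracket. -/
def Graded (P : ZMod n → AddSubgroup L) : Prop :=
  ∀ i j, ∀ x ∈ P i, ∀ y ∈ P j, ⁅x, y⁆ ∈ P (i + j)

theorem Graded.br_le_self (hP : Graded P) {Q R : ZMod n → AddSubgroup L} (hQ : ∀ i, Q i ≤ P i)
    (hR : ∀ i, R i ≤ P i) (k : ZMod n) : br Q R k ≤ P k :=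
  br_le fun i j hij x hx y hy => hij ▸ hP i j x (hQ i hx) y (hR j hy)

theorem Graded.der (hP : Graded P) : ∀ m, Graded (LieFamily.der P m) ∧
    ∀ i, LieFamily.der P m i ≤ P i
  | 0 => ⟨hP, fun _ => le_rfl⟩
  | m + 1 => by
    obtain ⟨h1, h2⟩ := Graded.der hP m
    refine ⟨fun i j x hx y hy => ?_, fun i => hP.br_le_self h2 h2 i⟩
    exact mem_br (h1.br_le_self (fun _ => le_rfl) (fun _ => le_rfl) i hx)
      (h1.br_le_self (fun _ => le_rfl) (fun _ => le_rfl) j hy)

theorem Graded.gen_mem (hP : Graded P) {s : ℕ} {i : ZMod n} {x : L} (hx : Gen P s i x) :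
    x ∈ P i := by
  induction hx with
  | base h _ => exact h
  | step _ hg _ ih => exact hP _ _ _ ih _ hg

theorem hi_mono {Q : ZMod n → AddSubgroup L} {s : ℕ}
    (h : ∀ t : ZMod n, s ≤ t.val → Q t ≤ P t) (i : ZMod n) : hi Q s i ≤ hi P s i := by
  rw [hi, closure_le]
  intro x hx
  induction hx with
  | base h1 ht => exact subset_closure (Gen.base (h _ ht h1) ht)
  | step _ hg ht ih => exact hi_mul_base ih (h _ ht hg) ht

theorem Graded.hi_lie_zero (hP : Graded P) {s : ℕ} {i : ZMod n} {x y : L}
    (hx : x ∈ hi P s i) (hy : y ∈ P 0) : ⁅x, y⁆ ∈ hi P s i := by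
  refine lie_mem_closure_left hx fun c hc => ?_
  clear hx
  induction hc with
  | @base t g hg ht =>
    have := hP t 0 g hg y hy
    rw [add_zero] at this
    exact subset_closure (Gen.base this ht)
  | @step d t c g hc hg ht ih =>
    rw [lie_lie, ← lie_skew g ⁅c, y⁆, sub_neg_eq_add]
    refine add_mem ?_ (hi_mul_base ih hg ht)
    have := hP t 0 g hg y hy
    rw [add_zero] at this
    exact subset_closure (Gen.step hc this ht)

variable [NeZero n]

/-- The key computation. -/
theorem Graded.lie_mem_hi_sup (hP : Graded P) {s : ℕ} {a : ZMod n} {x : L}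
    (hx : Gen P s a x) :
    ∀ b, a + b = (s : ZMod n) → ∀ y ∈ P b,
      ⁅x, y⁆ ∈ hi P (s + 1) (s : ZMod n) ⊔ adImg (P (s : ZMod n)) (P 0) 1 := by
  induction hx with
  | @base t g hg ht =>
    intro b hb y hy
    rcases eq_or_lt_of_le ht with heq | hlt
    · have hts : t = (s : ZMod n) := by rw [heq, ZMod.natCast_val, ZMod.cast_id]
      have hb0 : b = 0 := by rwa [hts, add_eq_left] at hb
      exact mem_sup_right (mem_brk (hts ▸ hg) (hb0 ▸ hy))
    · have hbv : s + 1 ≤ b.val := by
        have : b = (s : ZMod n) - t := by rw [← hb, add_sub_cancel_left]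
        rw [this, val_sub_of_lt hlt]
        have := ZMod.val_lt t
        omega
      refine mem_sup_left ?_
      rw [← hb]
      exact hi_mul_base (subset_closure (Gen.base hg hlt)) hy hbv
  | @step d t c g hc hg ht ih =>
    intro b hb y hy
    rw [lie_lie]
    refine sub_mem (ih (t + b) (by rw [← hb]; abel) _ (hP _ _ _ hg _ hy)) ?_
    have hcy : ⁅c, y⁆ ∈ P (d + b) := hP _ _ _ (hP.gen_mem hc) _ hy
    have hdb : d + b = (s : ZMod n) - t := by rw [← hb]; abel
    rcases eq_or_lt_of_le ht with heq | hlt
    · have hts : t = (s : ZMod n) := by rw [heq, ZMod.natCast_val, ZMod.cast_id]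
      have h0 : d + b = 0 := by rw [hdb, hts, sub_self]
      exact mem_sup_right (mem_brk (hts ▸ hg) (h0 ▸ hcy))
    · have hv : s + 1 ≤ (d + b).val := by
        rw [hdb, val_sub_of_lt hlt]
        have := ZMod.val_lt t
        omega
      refine mem_sup_left ?_
      rw [show (s : ZMod n) = t + (d + b) by rw [← hb]; abel]
      exact hi_mul_base (subset_closure (Gen.base hg hlt)) hcy hv

/-- The number of derived steps needed. -/
def kre (N : ℕ) : ℕ → ℕ
  | 0 => 0
  | s + 1 => N * (kre N s + 1) + kre N s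

theorem Graded.kreknin_aux {N : ℕ} (s : ℕ) (hs : s < n) : ∀ P : ZMod n → AddSubgroup L, Graded P →
    (∀ i, adImg (P i) (P 0) N = ⊥) → ∀ i, i ≠ 0 → LieFamily.der P (kre N s) i ≤ hi P (s + 1) i := by
  induction s with
  | zero =>
    intro P _ _ i hi0 x hx
    exact subset_closure (Gen.base hx (Nat.one_le_iff_ne_zero.2 fun h => hi0 ((ZMod.val_eq_zero i).1 h)))
  | succ s ih =>
    intro P hP hN i hi0
    set m := kre N s with hm
    set σ : ZMod n := ((s + 1 : ℕ) : ZMod n) with hσ
    have hσv : σ.val = s + 1 := by rw [hσ, ZMod.val_natCast, Nat.mod_eq_of_lt hs]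
    have hσ0 : σ ≠ 0 := fun h => by simp [h] at hσv
    have adNil' : ∀ k, ∀ i, adImg (LieFamily.der P k i) (LieFamily.der P k 0) N = ⊥ := fun k i =>
      eq_bot_iff.2 ((adImg_mono ((hP.der k).2 i) ((hP.der k).2 0) N).trans (hN i).le)
    have one : ∀ P : ZMod n → AddSubgroup L, Graded P → (∀ i, adImg (P i) (P 0) N = ⊥) →
        LieFamily.der P (m + 1) σ ≤ hi P (s + 2) σ ⊔ adImg (P σ) (P 0) 1 := by
      intro P hP hN
      refine br_le fun a b hab x hx y hy => ?_
      rcases eq_or_ne a 0 with rfl | ha
      · rw [zero_add] at hab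
        subst hab
        rw [← lie_skew]
        exact neg_mem (lie_mem_closure_left (ih (by omega) P hP hN _ hσ0 hy) fun c hc =>
          hP.lie_mem_hi_sup hc 0 (add_zero _) x ((hP.der m).2 0 hx))
      · exact lie_mem_closure_left (ih (by omega) P hP hN a ha hx) fun c hc =>
          hP.lie_mem_hi_sup hc b hab y ((hP.der m).2 b hy)
    have iter : ∀ j, LieFamily.der P (j * (m + 1)) σ ≤ hi P (s + 2) σ ⊔ adImg (P σ) (P 0) j := by
      intro j
      induction j with
      | zero => rw [Nat.zero_mul]; exact le_sup_right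
      | succ j ihj =>
        set P' := LieFamily.der P (j * (m + 1))
        have hle := (hP.der (j * (m + 1))).2
        rw [Nat.succ_mul, der_add]
        refine (one P' (hP.der _).1 (adNil' _)).trans (sup_le ?_ ?_)
        · exact le_sup_of_le_left (hi_mono (fun t _ => hle t) σ)
        · show brk (P' σ) (P' 0) ≤ _
          rw [brk_le_iff]
          intro x hx y hy
          obtain ⟨u, hu, w, hw, rfl⟩ := mem_sup.1 (ihj hx)
          rw [add_lie]
          exact add_mem (mem_sup_left (hP.hi_lie_zero hu (hle 0 hy)))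
            (mem_sup_right (mem_brk hw (hle 0 hy)))
    set Q := LieFamily.der P (N * (m + 1)) with hQ
    have hbase : ∀ t : ZMod n, s + 1 ≤ t.val → Q t ≤ hi P (s + 2) t := by
      intro t ht z hz
      rcases eq_or_lt_of_le ht with heq | hlt
      · have hts : t = σ := ZMod.val_injective n (by omega)
        have h := iter N (hts ▸ hz)
        rw [hN σ, sup_bot_eq] at h
        exact hts ▸ h
      · exact subset_closure (Gen.base ((hP.der _).2 t hz) hlt)
    have hgen : ∀ j z, Gen Q (s + 1) j z → z ∈ hi P (s + 2) j := by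
      intro j z hz
      induction hz with
      | base hx ht => exact hbase _ ht hx
      | step _ hg ht ihz => exact hi_mul ihz (hbase _ ht hg)
    rw [show kre N (s + 1) = N * (m + 1) + m from rfl, der_add]
    refine (ih (by omega) Q (hP.der _).1 (adNil' _) i hi0).trans ?_
    rw [hi, closure_le]
    exact fun z hz => hgen i z hz

/-- Kreknin: with a nilpotently acting zero component the derived length is bounded. -/
theorem Graded.kreknin {N : ℕ} (hP : Graded P) (hN : ∀ i, adImg (P i) (P 0) N = ⊥) (i : ZMod n) :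
    LieFamily.der P (kre N (n - 1) + N) i = ⊥ := by
  have hn : n - 1 + 1 = n := Nat.succ_pred_eq_of_pos (Nat.pos_of_ne_zero (NeZero.ne n))
  set g := kre N (n - 1)
  have h0 : ∀ i, i ≠ 0 → LieFamily.der P g i = ⊥ := fun i hi => by
    have h := Graded.kreknin_aux (n - 1) (by omega) P hP hN i hi
    rw [hn, hi_eq_bot] at h
    exact eq_bot_iff.2 h
  have key : ∀ j, (∀ i, i ≠ 0 → LieFamily.der P (g + j) i = ⊥) ∧
      LieFamily.der P (g + j) 0 ≤ adImg (P 0) (P 0) j := by
    intro j
    induction j with
    | zero => exact ⟨h0, (hP.der g).2 0⟩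
    | succ j ih =>
      have hsplit : ∀ i, LieFamily.der P (g + (j + 1)) i ≤
          if i = 0 then adImg (P 0) (P 0) (j + 1) else ⊥ := fun i => by
        refine br_le fun a b hab x hx y hy => ?_
        by_cases ha : a = 0
        · by_cases hb : b = 0
          · subst ha hb
            rw [← hab, add_zero, if_pos rfl]
            exact mem_brk (ih.2 hx) ((hP.der _).2 0 hy)
          · have h := ih.1 b hb
            have : y ∈ (⊥ : AddSubgroup L) := h ▸ hy
            rw [mem_bot] at this
            simp [this]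
        · have h := ih.1 a ha
          have : x ∈ (⊥ : AddSubgroup L) := h ▸ hx
          rw [mem_bot] at this
          simp [this]
      exact ⟨fun i hi => eq_bot_iff.2 (by simpa [hi] using hsplit i),
        by simpa using hsplit 0⟩
  rcases eq_or_ne i 0 with rfl | hi
  · exact eq_bot_iff.2 ((key N).2.trans (hN 0).le)
  · exact (key N).1 i hi

end CfsgLib.CentClass
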