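import Cfsg.Agent.CentClass.Nilp
import Cfsg.Agent.CentClass.AdNil
import Cfsg.Agent.FGSA.GrLie

/-!
# Special families of subgroups and their images in the graded Lie ring
-/

set_option autoImplicit false
set_option linter.unusedSectionVars false
set_option linter.style.haveILetI false

namespace CfsgLib.CentClass

open Subgroup CfsgLib.GrLie CfsgLib.LieFamily
open scoped commutatorElement

universe u v w

/-- The derived series of a subgroup. -/
def dcom {G : Type u} [Group G] (X : Subgroup G) : ℕ → Subgroup G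
  | 0 => X
  | j + 1 => ⁅dcom X j, dcom X j⁆

theorem dcom_le_lcs {G : Type u} [Group G] (X : Subgroup G) :
    ∀ j, dcom X j ≤ X.lowerCentralSeries j ∧ dcom X j ≤ X
  | 0 => ⟨le_rfl, le_rfl⟩
  | j + 1 => ⟨(commutator_mono (dcom_le_lcs X j).1 (dcom_le_lcs X j).2).trans le_rfl,
      (commutator_mono (dcom_le_lcs X j).2 (dcom_le_lcs X j).2).trans X.commutator_le_self⟩

theorem dcom_add {G : Type u} [Group G] (X : Subgroup G) (a : ℕ) :
    ∀ b, dcom X (a + b) = dcom (dcom X a) b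
  | 0 => rfl
  | b + 1 => by rw [← add_assoc]; simp only [dcom, dcom_add X a b]

theorem dcom_mono {G : Type u} [Group G] {X Y : Subgroup G} (h : X ≤ Y) : ∀ j, dcom X j ≤ dcom Y j
  | 0 => h
  | j + 1 => commutator_mono (dcom_mono h j) (dcom_mono h j)

theorem dcom_map {G : Type u} [Group G] {H : Type v} [Group H] (f : G →* H) (X : Subgroup G) :
    ∀ j, (dcom X j).map f = dcom (X.map f) j
  | 0 => rfl
  | j + 1 => by rw [dcom, map_commutator, dcom_map f X j]; rfl

theorem dcom_sup_le {G : Type u} [Group G] (P X : Subgroup G) [P.Normal] (j : ℕ) :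
    dcom (P ⊔ X) j ≤ P ⊔ dcom X j := by
  set π := QuotientGroup.mk' P
  have h : (P ⊔ X).map π = X.map π := by
    rw [Subgroup.map_sup, (Subgroup.map_eq_bot_iff P).2 (QuotientGroup.ker_mk' P).ge, bot_sup_eq]
  have h2 : (dcom (P ⊔ X) j).map π ≤ (dcom X j).map π := by rw [dcom_map, dcom_map, h]
  rw [Subgroup.map_le_map_iff, QuotientGroup.ker_mk'] at h2
  exact h2.trans_eq (sup_comm _ _)

theorem lcs_mono {G : Type u} [Group G] {X Y : Subgroup G} (h : X ≤ Y) :
    ∀ n, X.lowerCentralSeries n ≤ Y.lowerCentralSeries n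
  | 0 => h
  | n + 1 => commutator_mono (lcs_mono h n) h

theorem lcs_bot {G : Type u} [Group G] : ∀ n, (⊥ : Subgroup G).lowerCentralSeries n = ⊥
  | 0 => rfl
  | n + 1 => eq_bot_iff.2 ((commutator_mono (lcs_bot n).le le_rfl).trans
      (Subgroup.commutator_bot_right _).le)

theorem dcom_finset {G : Type u} [Group G] {ι : Type v} (M : ι → Subgroup G) (c : ℕ)
    (hn : ∀ a, (M a).Normal) (hc : ∀ a, (M a).lowerCentralSeries c = ⊥) (s : Finset ι) :
    dcom (s.sup M) (s.card * c) = ⊥ := by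
  classical
  induction s using Finset.induction_on with
  | empty =>
    rw [Finset.sup_empty, Finset.card_empty, Nat.zero_mul]
    rfl
  | @insert a s ha ih =>
    haveI : (s.sup M).Normal :=
      Finset.sup_induction (p := Subgroup.Normal) Subgroup.normal_bot
        (fun X hX Y hY => @Subgroup.sup_normal _ _ X Y hX hY) fun b _ => hn b
    rw [Finset.sup_insert, Finset.card_insert_of_notMem ha, add_mul, one_mul, sup_comm, add_comm,
      dcom_add, eq_bot_iff, ← ih]
    refine dcom_mono ((dcom_sup_le _ _ c).trans ?_) _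
    rw [eq_bot_iff.2 ((dcom_le_lcs (M a) c).1.trans (hc a).le), sup_bot_eq]

variable {G : Type u} [Group G] {A : Type v} [CommGroup A] (φ : A →* MulAut G)

/-- A family of special subgroups. -/
structure Special (p c : ℕ) (N : A → Subgroup G) {τ : Type w} (T : τ → Subgroup G) : Prop where
  hyp : Hyp (G := G) (A := A) p
  le_fx : ∀ a, a ≠ 1 → N a ≤ fx φ a
  conj : ∀ a, a ≠ 1 → ∀ g ∈ fx φ a, ∀ x ∈ N a, g * x * g⁻¹ ∈ N a
  cls : ∀ a, a ≠ 1 → (N a).lowerCentralSeries c = ⊥
  inv : ∀ t, Inv φ (T t)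
  rank : ∀ t, ∃ B : Subgroup A, p ^ 2 ≤ Nat.card B ∧ ∀ a ∈ B, a ≠ 1 → T t ≤ N a
  gen : closure {g | ∃ t H, Hyper p H ∧ g ∈ T t ∧ g ∈ fxAll φ H} = ⊤
  comm : ∀ t t' H, Hyper p H → ∃ s, ⁅T t, T t'⁆ ⊓ fxAll φ H ≤ T s

variable {p c : ℕ} {N : A → Subgroup G} {τ : Type w} {T : τ → Subgroup G}

theorem Special.engel (h : Special φ p c N T) : EngelData φ p c N := by
  refine ⟨h.hyp, h.le_fx, h.conj, h.cls, ?_⟩
  rw [eq_top_iff, ← h.gen]
  refine closure_mono ?_
  rintro g ⟨t, H, -, hg, -⟩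
  obtain ⟨B, hB, hBT⟩ := h.rank t
  exact ⟨B, hB, fun a ha ha1 => hBT a ha ha1 hg⟩

/-- Elements of special subgroups fixed by `H`. -/
def spec (T : τ → Subgroup G) (H : Subgroup A) : Set G := {g | g ∈ fxAll φ H ∧ ∃ t, g ∈ T t}

/-- Their images. -/
def layer (T : τ → Subgroup G) (H : Subgroup A) : AddSubgroup (Gr G) :=
  AddSubgroup.closure {x | ∃ i g, ∃ h : g ∈ gam G i, g ∈ spec φ T H ∧ x = ι i g h}

variable {φ} [Finite A] [Finite G]

theorem Special.ι_mem (h : Special φ p c N T) :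
    ∀ i g (hg : g ∈ gam G i), ι i g hg ∈ AddSubgroup.closure
      {x | ∃ H, Hyper p H ∧ ∃ u, ∃ hu : u ∈ gam G i, u ∈ spec φ T H ∧ x = ι i u hu} := by
  intro i
  induction i with
  | zero =>
    intro g hg
    set Tgt := AddSubgroup.closure
      {x : Gr G | ∃ H, Hyper p H ∧ ∃ u, ∃ hu : u ∈ gam G 0, u ∈ spec φ T H ∧ x = ι 0 u hu}
    let W : Subgroup G :=
      { carrier := {g | ∃ hg : g ∈ gam G 0, ι 0 g hg ∈ Tgt}
        one_mem' := ⟨one_mem _, by rw [ι_one]; exact zero_mem _⟩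
        mul_mem' := by
          rintro a b ⟨ha, ha'⟩ ⟨hb, hb'⟩
          exact ⟨mul_mem ha hb, by rw [ι_mul ha hb]; exact add_mem ha' hb'⟩
        inv_mem' := by
          rintro a ⟨ha, ha'⟩
          exact ⟨inv_mem ha, by rw [ι_inv ha]; exact neg_mem ha'⟩ }
    have hle : (⊤ : Subgroup G) ≤ W := h.gen ▸ (closure_le _).2 (by
      rintro x ⟨t, H, hH, hxT, hxH⟩
      exact ⟨mem_top x, AddSubgroup.subset_closure ⟨H, hH, x, mem_top x, ⟨hxH, t, hxT⟩, rfl⟩⟩)
    obtain ⟨_, hg'⟩ := hle (mem_top g)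
    exact hg'
  | succ i ih =>
    intro g hg
    set Tgt := AddSubgroup.closure
      {x : Gr G | ∃ H, Hyper p H ∧ ∃ u, ∃ hu : u ∈ gam G (i + 1), u ∈ spec φ T H ∧
        x = ι (i + 1) u hu}
    let W : Subgroup G :=
      { carrier := {g | ∃ hg : g ∈ gam G (i + 1), ι (i + 1) g hg ∈ Tgt}
        one_mem' := ⟨one_mem _, by rw [ι_one]; exact zero_mem _⟩
        mul_mem' := by
          rintro a b ⟨ha, ha'⟩ ⟨hb, hb'⟩
          exact ⟨mul_mem ha hb, by rw [ι_mul ha hb]; exact add_mem ha' hb'⟩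
        inv_mem' := by
          rintro a ⟨ha, ha'⟩
          exact ⟨inv_mem ha, by rw [ι_inv ha]; exact neg_mem ha'⟩ }
    suffices hW : gam G (i + 1) ≤ W by obtain ⟨_, hg'⟩ := hW hg; exact hg'
    show ⁅gam G i, (⊤ : Subgroup G)⁆ ≤ W
    rw [Subgroup.commutator_le]
    intro a ha b _
    have hb : b ∈ gam G 0 := mem_top b
    have hab : ⁅a, b⁆ ∈ gam G (i + 1) :=
      Subgroup.commutator_mem_commutator ha (mem_top b)
    refine ⟨hab, ?_⟩
    rw [show ι (i + 1) ⁅a, b⁆ hab = ⁅ι i a ha, ι 0 b hb⁆ from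
      ((lie_ι ha hb).trans (ι_congr (by omega) rfl _ _)).symm]
    refine lie_mem_closure_left (ih a ha) ?_
    rintro _ ⟨H₁, -, x, hx, ⟨-, t, hxt⟩, rfl⟩
    have hb0 : ι 0 b hb ∈ AddSubgroup.closure
        {y : Gr G | ∃ u, ∃ hu : u ∈ gam G 0, (∃ t', u ∈ T t') ∧ y = ι 0 u hu} := by
      let W₀ : Subgroup G :=
        { carrier := {g | ∃ hg : g ∈ gam G 0, ι 0 g hg ∈ AddSubgroup.closure
            {y : Gr G | ∃ u, ∃ hu : u ∈ gam G 0, (∃ t', u ∈ T t') ∧ y = ι 0 u hu}}
          one_mem' := ⟨one_mem _, by rw [ι_one]; exact zero_mem _⟩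
          mul_mem' := by
            rintro a b ⟨ha, ha'⟩ ⟨hb, hb'⟩
            exact ⟨mul_mem ha hb, by rw [ι_mul ha hb]; exact add_mem ha' hb'⟩
          inv_mem' := by
            rintro a ⟨ha, ha'⟩
            exact ⟨inv_mem ha, by rw [ι_inv ha]; exact neg_mem ha'⟩ }
      have hle : (⊤ : Subgroup G) ≤ W₀ := h.gen ▸ (closure_le _).2 (by
        rintro x ⟨t', H, -, hxT, -⟩
        exact ⟨mem_top x, AddSubgroup.subset_closure ⟨x, mem_top x, ⟨t', hxT⟩, rfl⟩⟩)
      obtain ⟨_, hb'⟩ := hle (mem_top b)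
      exact hb'
    refine lie_mem_closure_right hb0 ?_
    rintro _ ⟨y, hy, ⟨t', hyt⟩, rfl⟩
    have hxy : ⁅x, y⁆ ∈ gam G (i + 1) := Subgroup.commutator_mem_commutator hx (mem_top y)
    rw [show ⁅ι i x hx, ι 0 y hy⁆ = ι (i + 1) ⁅x, y⁆ hxy from
      (lie_ι hx hy).trans (ι_congr (by omega) rfl _ _)]
    set U : Subgroup G := ⁅T t, T t'⁆ ⊓ gam G (i + 1)
    have hUi : Inv φ U := ((h.inv t).commutator φ (h.inv t')).inf φ fun a u hu => aut_mem _ hu
    have hUW : U ≤ W := (h.hyp.eq_closure_hyper hUi).trans ((closure_le _).2 (by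
      rintro u ⟨hu, H, hH, huH⟩
      obtain ⟨s, hs⟩ := h.comm t t' H hH
      exact ⟨hu.2, AddSubgroup.subset_closure ⟨H, hH, u, hu.2, ⟨huH, s, hs ⟨hu.1, huH⟩⟩, rfl⟩⟩))
    obtain ⟨_, hu'⟩ := hUW ⟨commutator_mem_commutator hxt hyt, hxy⟩
    exact hu'

/-- Every element is a sum of images of special elements. -/
theorem Special.mem_closure_layers (h : Special φ p c N T) (x : Gr G) :
    x ∈ AddSubgroup.closure {y | ∃ H, Hyper p H ∧ y ∈ layer φ T H} := by
  refine GrLie.induction (P := fun x => x ∈ AddSubgroup.closure _) (zero_mem _) (fun n g hg => ?_)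
    (fun a b ha hb => add_mem ha hb) x
  refine (AddSubgroup.closure_le _).2 ?_ (h.ι_mem n g hg)
  rintro _ ⟨H, hH, u, hu, hs, rfl⟩
  exact AddSubgroup.subset_closure ⟨H, hH, AddSubgroup.subset_closure ⟨n, u, hu, hs, rfl⟩⟩

theorem Special.layer_lie (h : Special φ p c N T) {H : Subgroup A} (hH : Hyper p H) :
    brk (layer φ T H) (layer φ T H) ≤ layer φ T H := by
  rw [brk_le_iff]
  intro x hx y hy
  refine lie_mem_closure_left hx ?_
  rintro _ ⟨i, u, hu, ⟨huH, t, hut⟩, rfl⟩
  refine lie_mem_closure_right hy ?_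
  rintro _ ⟨j, w, hw, ⟨hwH, t', hwt⟩, rfl⟩
  rw [lie_ι]
  obtain ⟨s, hs⟩ := h.comm t t' H hH
  have hm : ⁅u, w⁆ ∈ fxAll φ H := by
    rw [commutatorElement_def]
    exact mul_mem (mul_mem (mul_mem huH hwH) (inv_mem huH)) (inv_mem hwH)
  exact AddSubgroup.subset_closure
    ⟨_, _, _, ⟨hm, s, hs ⟨commutator_mem_commutator hut hwt, hm⟩⟩, rfl⟩

/-- The nilpotent normal pieces of the fixed subgroup of a hyperplane generate a soluble group. -/
theorem Special.exists_dcom (h : Special φ p c N T) {H : Subgroup A} (hH : Hyper p H) :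
    ∃ P : Subgroup G, (∀ g ∈ spec φ T H, g ∈ P) ∧ dcom P (Nat.card A * c) = ⊥ := by
  classical
  letI := Fintype.ofFinite A
  set F := fxAll φ H with hF
  let M : A → Subgroup F := fun a => if a ∈ H ∧ a ≠ 1 then (N a).subgroupOf F else ⊥
  have hn : ∀ a, (M a).Normal := by
    intro a
    simp only [M]
    split_ifs with ha
    · exact ⟨fun x hx g => h.conj a ha.2 g ((mem_fxAll φ).1 g.2 a ha.1) x hx⟩
    · exact Subgroup.normal_bot
  have hc : ∀ a, (M a).lowerCentralSeries c = ⊥ := by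
    intro a
    simp only [M]
    split_ifs with ha
    · refine map_injective F.subtype_injective ?_
      rw [map_lowerCentralSeries, Subgroup.map_bot, eq_bot_iff, ← h.cls a ha.2]
      have hle : ((N a).subgroupOf F).map F.subtype ≤ N a := by
        rw [subgroupOf_map_subtype]; exact inf_le_left
      exact lcs_mono hle c
    · exact lcs_bot c
  refine ⟨(Finset.univ.sup M).map F.subtype, ?_, ?_⟩
  · rintro g ⟨hgH, t, hgt⟩
    obtain ⟨B, hB, hBT⟩ := h.rank t
    obtain ⟨a, haB, haH, ha1⟩ := exists_mem_inf h.hyp.prime hB hH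
    refine ⟨⟨g, hgH⟩, Finset.le_sup (f := M) (Finset.mem_univ a) ?_, rfl⟩
    simp only [M, if_pos (show a ∈ H ∧ a ≠ 1 from ⟨haH, ha1⟩)]
    exact hBT a haB ha1 hgt
  · rw [← dcom_map, Nat.card_eq_fintype_card, ← Finset.card_univ, dcom_finset M c hn hc,
      Subgroup.map_bot]

/-- The layers act nilpotently with bounded length. -/
theorem Special.adNil_layer (h : Special φ p c N T) {H : Subgroup A} (hH : Hyper p H) :
    AdNil (layer φ T H) (layerBound (2 ^ Nat.card A) c (Nat.card A * c)) := by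
  classical
  letI := Fintype.ofFinite (Subgroup A)
  obtain ⟨P, hP, hPd⟩ := h.exists_dcom hH
  let Y : Subgroup A → AddSubgroup (Gr G) := fun B => AddSubgroup.closure
    {x | p ^ 2 ≤ Nat.card B ∧ ∃ i g, ∃ hg : g ∈ gam G i,
      (∀ a ∈ B, a ≠ 1 → g ∈ N a) ∧ x = ι i g hg}
  have hY : ∀ B, AdNil (Y B) (c + 1) := by
    intro B
    by_cases hB : p ^ 2 ≤ Nat.card B
    swap
    · refine adNil_bot.mono ?_ (by omega)
      rw [AddSubgroup.closure_le]
      rintro x ⟨h2, -⟩
      exact absurd h2 hB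
    refine eq_bot_iff.2 ((adImg_le_closure_lmul le_rfl (c + 1)).trans ?_)
    rw [AddSubgroup.closure_le]
    rintro _ ⟨v, -, l, hl, hlX, rfl⟩
    rw [SetLike.mem_coe, AddSubgroup.mem_bot]
    refine GrLie.induction (P := fun v => lmul v l = 0) (lmul_zero l) (fun n z hz => ?_)
      (fun a b ha hb => by rw [lmul_add, ha, hb, add_zero]) v
    let S : Subgroup G :=
      { carrier := {z | ∃ hz : z ∈ gam G n, lmul (ι n z hz) l = 0}
        one_mem' := ⟨one_mem _, by rw [ι_one]; exact lmul_zero l⟩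
        mul_mem' := by
          rintro a b ⟨ha, ha'⟩ ⟨hb, hb'⟩
          exact ⟨mul_mem ha hb, by rw [ι_mul ha hb, lmul_add, ha', hb', add_zero]⟩
        inv_mem' := by
          rintro a ⟨ha, ha'⟩
          refine ⟨inv_mem ha, ?_⟩
          have e := lmul_add l (ι n a⁻¹ (inv_mem ha)) (ι n a ha)
          rw [ha', add_zero, ι_inv ha, neg_add_cancel, lmul_zero] at e
          rw [ι_inv ha]
          exact e.symm }
    have hle : gam G n ≤ S := (h.hyp.le_closure_of_rank_two (φ := φ)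
      (fun b _ u hu => aut_mem _ hu) hB).trans ((closure_le _).2 (by
      rintro z ⟨hz, a, ha, ha1, hza⟩
      refine ⟨hz, ?_⟩
      have key : ∀ l : List (Gr G), (∀ x ∈ l, p ^ 2 ≤ Nat.card B ∧ ∃ i g, ∃ hg : g ∈ gam G i,
          (∀ a ∈ B, a ≠ 1 → g ∈ N a) ∧ x = ι i g hg) → ∀ k, l.length = k + 1 →
          ∃ m w, ∃ hw : w ∈ gam G m, w ∈ (N a).lowerCentralSeries k ∧
            lmul (ι n z hz) l = ι m w hw := by
        intro l
        induction l using List.reverseRecOn with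
        | nil => intro _ k hk; simp at hk
        | append_singleton l x ih =>
          intro hl k hk
          obtain ⟨-, i, g, hg, hgN, rfl⟩ := hl x (by simp)
          rw [List.length_append, List.length_singleton] at hk
          rcases Nat.eq_zero_or_pos k with rfl | hk0
          · have : l = [] := List.length_eq_zero_iff.1 (by omega)
            subst this
            refine ⟨_, ⁅z, g⁆, comm_mem G hz hg, ?_, lie_ι hz hg⟩
            show ⁅z, g⁆ ∈ N a
            rw [commutatorElement_def]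
            exact mul_mem (h.conj a ha1 z hza g (hgN a ha ha1)) (inv_mem (hgN a ha ha1))
          · obtain ⟨k', rfl⟩ := Nat.exists_eq_succ_of_ne_zero hk0.ne'
            obtain ⟨m, w, hw, hwN, he⟩ := ih (fun y hy => hl y (by simp [hy])) k' (by omega)
            refine ⟨_, ⁅w, g⁆, comm_mem G hw hg, commutator_mem_commutator hwN (hgN a ha ha1), ?_⟩
            show List.foldl _ _ _ = _
            rw [List.foldl_append]
            show ⁅lmul (ι n z hz) l, ι i g hg⁆ = _
            rw [he, lie_ι]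
      obtain ⟨m, w, hw, hwN, he⟩ := key l hlX c hl
      rw [h.cls a ha1, Subgroup.mem_bot] at hwN
      subst hwN
      rw [he, ι_one]))
    obtain ⟨_, hz'⟩ := hle hz
    exact hz'
  -- the derived series of the layer
  have hd : ∀ j, dser (layer φ T H) j ≤ AddSubgroup.closure
      {x | ∃ i g, ∃ hg : g ∈ gam G i, g ∈ spec φ T H ∧ g ∈ dcom P j ∧ x = ι i g hg ∧
        x ∈ dser (layer φ T H) j} := by
    intro j
    induction j with
    | zero =>
      show layer φ T H ≤ _
      rw [layer, AddSubgroup.closure_le]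
      rintro _ ⟨i, g, hg, hs, rfl⟩
      exact AddSubgroup.subset_closure
        ⟨i, g, hg, hs, hP g hs, rfl, AddSubgroup.subset_closure ⟨i, g, hg, hs, rfl⟩⟩
    | succ j ih =>
      show brk _ _ ≤ _
      rw [brk_le_iff]
      intro x hx y hy
      refine lie_mem_closure_left (ih hx) ?_
      rintro _ ⟨i, u, hu, ⟨huH, t, hut⟩, hud, rfl, hudx⟩
      refine lie_mem_closure_right (ih hy) ?_
      rintro _ ⟨k, w, hw, ⟨hwH, t', hwt⟩, hwd, rfl, hwdy⟩
      obtain ⟨s, hs⟩ := h.comm t t' H hH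
      have hm : ⁅u, w⁆ ∈ fxAll φ H := by
        rw [commutatorElement_def]
        exact mul_mem (mul_mem (mul_mem huH hwH) (inv_mem huH)) (inv_mem hwH)
      exact AddSubgroup.subset_closure
        ⟨_, _, comm_mem G hu hw, ⟨hm, s, hs ⟨commutator_mem_commutator hut hwt, hm⟩⟩,
          commutator_mem_commutator hud hwd, lie_ι hu hw, mem_brk hudx hwdy⟩
  have hl : dser (layer φ T H) (Nat.card A * c) = ⊥ := by
    refine eq_bot_iff.2 ((hd _).trans ?_)
    rw [AddSubgroup.closure_le]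
    rintro _ ⟨i, g, hg, -, hgd, rfl, -⟩
    rw [hPd, Subgroup.mem_bot] at hgd
    subst hgd
    rw [SetLike.mem_coe, AddSubgroup.mem_bot, ι_one]
  have hspan : ∀ j, dser (layer φ T H) j ≤
      AddSubgroup.closure {x | ∃ B, x ∈ Y B ∧ x ∈ dser (layer φ T H) j} := by
    intro j
    refine (hd j).trans (AddSubgroup.closure_mono ?_)
    rintro _ ⟨i, g, hg, ⟨-, t, hgt⟩, -, rfl, hgx⟩
    obtain ⟨B, hB, hBT⟩ := h.rank t
    exact ⟨B, AddSubgroup.subset_closure ⟨hB, i, g, hg, fun a ha ha1 => hBT a ha ha1 hgt, rfl⟩, hgx⟩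
  refine (AdNil.of_dser Y hY (h.layer_lie hH) hspan hl).mono le_rfl ?_
  refine Nat.pow_le_pow_left (Nat.add_le_add_right (Nat.mul_le_mul_right _ ?_) _) _
  letI := Fintype.ofFinite A
  rw [Nat.card_eq_fintype_card, ← Fintype.card_set]
  exact Fintype.card_le_of_injective (fun B : Subgroup A => (B : Set A)) SetLike.coe_injective

end CfsgLib.CentClass
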