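import Cfsg.Agent.CentClass.Eigen
import Cfsg.Agent.CentClass.Layers
import Cfsg.Agent.CentClass.GenKreknin

/-!
# The class of a group generated by special subgroups
-/

set_option autoImplicit false
set_option linter.unusedSectionVars false
set_option linter.style.haveILetI false

namespace CfsgLib.CentClass

open CfsgLib.Higman CfsgLib.GrLie CfsgLib.LieFamily
open scoped TensorProduct commutatorElement

noncomputable local instance (priority := high) instBracketClass {p : ℕ} {G : Type*} [Group G] :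
    Bracket (R p ⊗[ℤ] Gr G) (R p ⊗[ℤ] Gr G) :=
  ⟨(LieAlgebra.ExtendScalars.instLieRing ℤ (R p) (Gr G)).bracket⟩

universe u v w

variable {p c : ℕ} [Fact p.Prime] {G : Type u} [Group G] [Finite G] {A : Type v} [CommGroup A]
  [Finite A] {φ : A →* MulAut G} {N : A → Subgroup G} {τ : Type w} {T : τ → Subgroup G}

theorem tmul_one_injective : Function.Injective fun x : Gr G => (1 : R p) ⊗ₜ[ℤ] x := by
  obtain ⟨f, hf⟩ := exists_retraction p
  intro x y hxy
  have := congrArg (TensorProduct.lid ℤ (Gr G) ∘ f.rTensor (Gr G)) hxy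
  simpa [hf] using this

theorem Special.rho_mem_rspan (h : Special φ p c N T) (H : Subgroup A) (a : A) {v : LL p G}
    (hv : v ∈ rspan p (layer φ T H)) : rho p φ a v ∈ rspan p (layer φ T H) := by
  have hl : ∀ x ∈ layer φ T H, mapAut (φ a) x ∈ layer φ T H := by
    intro x hx
    refine AddSubgroup.closure_induction (p := fun x _ => mapAut (φ a) x ∈ layer φ T H) ?_
      (by rw [map_zero]; exact zero_mem _) (fun _ _ _ _ h₁ h₂ => by rw [map_add]; exact add_mem h₁ h₂)
      (fun _ _ h₁ => by rw [map_neg]; exact neg_mem h₁) hx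
    rintro _ ⟨i, g, hg, ⟨hgH, t, hgt⟩, rfl⟩
    rw [mapAut_ι]
    exact AddSubgroup.subset_closure
      ⟨i, _, _, ⟨inv_fxAll φ H a g hgH, t, h.inv t a g hgt⟩, rfl⟩
  induction hv using Submodule.span_induction with
  | zero => rw [map_zero]; exact zero_mem _
  | add a b _ _ ha hb => rw [map_add]; exact add_mem ha hb
  | smul c a _ ha => rw [map_smul]; exact Submodule.smul_mem _ _ ha
  | mem a ha =>
    obtain ⟨x, hx, rfl⟩ := ha
    rw [rho_tmul]
    exact tmul_mem_rspan (hl x hx) 1

theorem rho_of_mem_rspan {H : Subgroup A} {b : A} (hb : b ∈ H) {v : LL p G}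
    (hv : v ∈ rspan p (layer φ T H)) : rho p φ b v = v := by
  have hl : ∀ x ∈ layer φ T H, mapAut (φ b) x = x := by
    intro x hx
    refine AddSubgroup.closure_induction (p := fun x _ => mapAut (φ b) x = x) ?_ (map_zero _)
      (fun _ _ _ _ h₁ h₂ => by rw [map_add, h₁, h₂]) (fun _ _ h₁ => by rw [map_neg, h₁]) hx
    rintro _ ⟨i, g, hg, ⟨hgH, -⟩, rfl⟩
    rw [mapAut_ι]
    exact ι_congr rfl ((mem_fxAll φ).1 hgH b hb) _ _
  induction hv using Submodule.span_induction with
  | zero => exact map_zero _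
  | add a b _ _ ha hb => rw [map_add, ha, hb]
  | smul c a _ ha => rw [map_smul, ha]
  | mem a ha =>
    obtain ⟨x, hx, rfl⟩ := ha
    rw [rho_tmul, hl x hx]

theorem hyper_top : Hyper p (⊤ : Subgroup A) := by
  rw [Hyper, Subgroup.card_top]
  exact Nat.le_mul_of_pos_left _ (Fact.out : p.Prime).pos

/-- The part fixed by all of `A`. -/
theorem Special.projList_zero_mem (h : Special φ p c N T) {i : ℕ} {g : G} (hg : g ∈ gam G i)
    {t : τ} (hgt : g ∈ T t) {l : List A} (hl : ∀ a, a ∈ l) :
    projList h.hyp.cop φ (0 : A → ZMod p) l ((1 : R p) ⊗ₜ[ℤ] ι i g hg) ∈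
      rspan p (layer φ T (⊤ : Subgroup A)) := by
  have hA := h.hyp.exp
  have hz : ∀ l : List A, ∃ z, ∃ hz : z ∈ gam G i, z ∈ T t ∧
      projList h.hyp.cop φ (0 : A → ZMod p) l ((1 : R p) ⊗ₜ[ℤ] ι i g hg) = (1 : R p) ⊗ₜ[ℤ] ι i z hz := by
    intro l
    induction l with
    | nil => exact ⟨g, hg, hgt, rfl⟩
    | cons a l ih =>
      obtain ⟨z, hz, hzt, he⟩ := ih
      obtain ⟨w, hw, hwt, hwe⟩ : ∃ w, ∃ hw : w ∈ gam G i, w ∈ T t ∧
          ι i w hw = invP (p := p) (G := G) h.hyp.cop •
            ∑ k : ZMod p, ι i (φ (a ^ k.val) z) (aut_mem _ hz) := by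
        obtain ⟨w, hw, hwt, hwe⟩ := Finset.sum_induction
          (fun k : ZMod p => ι i (φ (a ^ k.val) z) (aut_mem _ hz))
          (fun v : Gr G => ∃ z, ∃ hz : z ∈ gam G i, z ∈ T t ∧ ι i z hz = v)
          (by
            rintro a b ⟨u, hu, hut, rfl⟩ ⟨v, hv, hvt, rfl⟩
            exact ⟨u * v, mul_mem hu hv, mul_mem hut hvt, ι_mul hu hv⟩)
          ⟨1, one_mem _, one_mem _, ι_one⟩
          (s := Finset.univ) fun k _ => ⟨_, aut_mem _ hz, h.inv t _ z hzt, rfl⟩
        exact ⟨w ^ invP (p := p) (G := G) h.hyp.cop, pow_mem hw _, pow_mem hwt _,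
          by rw [ι_pow hw, hwe]⟩
      refine ⟨w, hw, hwt, ?_⟩
      simp only [projList, Module.End.mul_apply]
      rw [he, proj_apply, hwe]
      simp only [Pi.zero_apply, zero_mul, ZMod.val_zero, pow_zero, one_smul, rho_tmul, mapAut_ι,
        TensorProduct.tmul_smul, TensorProduct.tmul_sum]
  obtain ⟨z, hz, hzt, he⟩ := hz l
  rw [he]
  have hfix : ∀ a, z⁻¹ * φ a z ∈ T t ⊓ gam G (i + 1) := by
    intro a
    refine ⟨(T t).mul_mem ((T t).inv_mem hzt) (h.inv t a z hzt), ?_⟩
    have h1 := rho_projList hA h.hyp.cop (φ := φ) (0 : A → ZMod p) l (hl a)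
      ((1 : R p) ⊗ₜ[ℤ] ι i g hg)
    rw [he, Pi.zero_apply, ZMod.val_zero, pow_zero, one_smul, rho_tmul, mapAut_ι] at h1
    exact (ι_eq_iff hz (aut_mem _ hz)).1 (tmul_one_injective h1).symm
  obtain ⟨z', hz', hzz⟩ := exists_fixed_in_coset (φ := φ) h.hyp
    ((h.inv t).inf φ (V := gam G (i + 1)) fun a u hu => aut_mem _ hu) z hfix
  have hz'i : z' ∈ gam G i := by
    have := mul_mem hz (gam_succ_le G i hzz.2)
    rwa [mul_inv_cancel_left] at this
  have hz't : z' ∈ T t := by
    have := mul_mem hzt hzz.1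
    rwa [mul_inv_cancel_left] at this
  rw [(ι_eq_iff hz hz'i).2 hzz.2]
  exact tmul_mem_rspan (K := layer φ T (⊤ : Subgroup A)) (AddSubgroup.subset_closure
    ⟨i, z', hz'i, ⟨(mem_fxAll φ).2 fun a _ => hz' a, t, hz't⟩, rfl⟩) 1

/-- Every eigenspace lies in one layer. -/
theorem Special.eig_le_layer (h : Special φ p c N T) (χ : A → ZMod p) :
    ∃ H, Hyper p H ∧ eig p φ χ ≤ (rspan p (layer φ T H)).toAddSubgroup := by
  classical
  letI := Fintype.ofFinite A
  have hA := h.hyp.exp
  have hcop := h.hyp.cop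
  set l := (Finset.univ : Finset A).toList with hl
  have hlall : ∀ a, a ∈ l := fun a => Finset.mem_toList.2 (Finset.mem_univ a)
  set e := projList hcop φ χ l with he
  have heig : ∀ v, e v ∈ eig p φ χ := fun v =>
    mem_eig.2 fun a => rho_projList hA hcop χ l (hlall a) v
  -- it suffices to control the projections of the layers
  suffices hmain : ∃ H', Hyper p H' ∧ ∀ H, Hyper p H → ∀ u ∈ rspan p (layer φ T H),
      e u ∈ rspan p (layer φ T H') by
    obtain ⟨H', hH', hm⟩ := hmain
    refine ⟨H', hH', fun v hv => ?_⟩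
    rw [Submodule.mem_toAddSubgroup, ← projList_of_eig hcop hv l, ← he]
    clear hv
    induction v using TensorProduct.induction_on with
    | zero => rw [map_zero]; exact zero_mem _
    | add a b ha hb => rw [map_add]; exact add_mem ha hb
    | tmul r x =>
      have hx := h.mem_closure_layers x
      refine AddSubgroup.closure_induction (p := fun x _ => e (r ⊗ₜ[ℤ] x) ∈ rspan p (layer φ T H'))
        ?_ (by rw [TensorProduct.tmul_zero, map_zero]; exact zero_mem _)
        (fun _ _ _ _ h₁ h₂ => by rw [TensorProduct.tmul_add, map_add]; exact add_mem h₁ h₂)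
        (fun _ _ h₁ => by rw [TensorProduct.tmul_neg, map_neg]; exact neg_mem h₁) hx
      rintro y ⟨H, hH, hy⟩
      exact hm H hH _ (tmul_mem_rspan hy r)
  by_cases hχ : χ = 0
  · refine ⟨⊤, hyper_top, fun H _ u hu => ?_⟩
    induction hu using Submodule.span_induction with
    | zero => rw [map_zero]; exact zero_mem _
    | add a b _ _ ha hb => rw [map_add]; exact add_mem ha hb
    | smul c a _ ha => rw [map_smul]; exact Submodule.smul_mem _ _ ha
    | mem a ha =>
      obtain ⟨x, hx, rfl⟩ := ha
      refine AddSubgroup.closure_induction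
        (p := fun x _ => e ((1 : R p) ⊗ₜ[ℤ] x) ∈ rspan p (layer φ T (⊤ : Subgroup A))) ?_
        (by rw [TensorProduct.tmul_zero, map_zero]; exact zero_mem _)
        (fun _ _ _ _ h₁ h₂ => by rw [TensorProduct.tmul_add, map_add]; exact add_mem h₁ h₂)
        (fun _ _ h₁ => by rw [TensorProduct.tmul_neg, map_neg]; exact neg_mem h₁) hx
      rintro _ ⟨i, g, hg, ⟨-, t, hgt⟩, rfl⟩
      rw [he, hχ]
      exact h.projList_zero_mem hg hgt hlall
  · obtain ⟨a₀, ha₀⟩ := Function.ne_iff.1 hχ
    let F : Subgroup A :=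
      { carrier := {a | ∀ v ∈ eig p φ χ, rho p φ a v = v}
        one_mem' := fun v _ => by rw [map_one, Module.End.one_apply]
        mul_mem' := fun {a b} ha hb v hv => by
          rw [map_mul, Module.End.mul_apply, hb v hv, ha v hv]
        inv_mem' := fun {a} ha v hv => by
          conv_lhs => rw [← ha v hv]
          rw [← Module.End.mul_apply, ← map_mul, inv_mul_cancel, map_one, Module.End.one_apply] }
    by_cases hne : ∀ v ∈ eig p φ χ, v = 0
    · exact ⟨⊤, hyper_top, fun H _ u _ => by rw [hne _ (heig u)]; exact zero_mem _⟩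
    have hFtop : F ≠ ⊤ := fun hF => hne fun v hv => by
      have h1 : rho p φ a₀ v = v := (hF ▸ Subgroup.mem_top a₀ : a₀ ∈ F) v hv
      rw [mem_eig.1 hv] at h1
      exact eq_zero_of_smul_zeta hcop ha₀ h1
    have hFcard : p * Nat.card F ≤ Nat.card A := by
      rw [← Subgroup.index_mul_card F]
      refine Nat.mul_le_mul_right _ (Nat.le_of_dvd (Nat.pos_of_ne_zero F.index_ne_zero_of_finite) ?_)
      obtain ⟨k, hk⟩ := (show IsPGroup p A from fun a => ⟨1, by rw [pow_one]; exact hA a⟩).index F
      rcases Nat.eq_zero_or_pos k with rfl | hk0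
      · exact absurd (Subgroup.index_eq_one.1 (by rw [hk, pow_zero])) hFtop
      · exact hk ▸ dvd_pow_self p hk0.ne'
    have hsub : ∀ H, Hyper p H → ∀ u ∈ rspan p (layer φ T H), e u ≠ 0 → H = F := by
      intro H hH u hu hu0
      have hle : H ≤ F := fun b hb v hv => by
        have hfix : rho p φ b (e u) = e u := by
          rw [he, projList_comm, rho_of_mem_rspan hb hu]
        have hb0 : χ b = 0 := by
          by_contra hb0
          rw [mem_eig.1 (heig u)] at hfix
          exact hu0 (eq_zero_of_smul_zeta hcop hb0 hfix)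
        rw [mem_eig.1 hv b, hb0, ZMod.val_zero, pow_zero, one_smul]
      refine Subgroup.eq_of_le_of_card_ge hle ?_
      exact Nat.le_of_mul_le_mul_left (hFcard.trans hH) (Fact.out : p.Prime).pos
    by_cases hex : ∃ H, Hyper p H ∧ ∃ u ∈ rspan p (layer φ T H), e u ≠ 0
    · obtain ⟨H₁, hH₁, u₁, hu₁, hu₁0⟩ := hex
      refine ⟨H₁, hH₁, fun H hH u hu => ?_⟩
      by_cases hu0 : e u = 0
      · rw [hu0]; exact zero_mem _
      · have hHH : H = H₁ := (hsub H hH u hu hu0).trans (hsub H₁ hH₁ u₁ hu₁ hu₁0).symm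
        subst hHH
        exact projList_mem hcop _ (fun a u hu => h.rho_mem_rspan H a hu) χ l hu
    · push Not at hex
      exact ⟨⊤, hyper_top, fun H hH u hu => by rw [hex H hH u hu]; exact zero_mem _⟩

/-- The bound for the action of the eigenspaces. -/
def eigBound (n c : ℕ) : ℕ := layerBound (2 ^ n) c (n * c)

/-- The bound along the flag of fixed subrings. -/
def flagBound (p n c : ℕ) : ℕ → ℕ
  | 0 => eigBound n c
  | k + 1 => max (eigBound n c) (layerBound (p ^ n) (eigBound n c - 1)
      (kre (flagBound p n c k) (p - 1) + flagBound p n c k))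

theorem eigBound_pos (n c : ℕ) : 0 < eigBound n c := pow_pos (Nat.succ_pos _) _

theorem Special.adNil_eig (h : Special φ p c N T) (χ : A → ZMod p) :
    AdNil (eig p φ χ) (eigBound (Nat.card A) c) := by
  obtain ⟨H, hH, hle⟩ := h.eig_le_layer χ
  exact ((h.adNil_layer hH).rspan (p := p)).mono hle le_rfl

/-- The fixed subring of a list. -/
noncomputable def fixList (p : ℕ) [Fact p.Prime] (φ : A →* MulAut G) (l : List A) :
    AddSubgroup (LL p G) where
  carrier := {v | ∀ a ∈ l, rho p φ a v = v}
  add_mem' := fun {u v} hu hv a ha => by rw [map_add, hu a ha, hv a ha]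
  zero_mem' := fun a _ => map_zero _
  neg_mem' := fun {u} hu a ha => by rw [map_neg, hu a ha]

theorem Special.adNil_fix (h : Special φ p c N T) : ∀ (k : ℕ) (l : List A), l.Nodup →
    Nat.card A ≤ l.length + k → AdNil (fixList p φ l) (flagBound p (Nat.card A) c k) := by
  classical
  letI := Fintype.ofFinite A
  have hA := h.hyp.exp
  have hcop := h.hyp.cop
  have hall : ∀ l : List A, (∀ a, a ∈ l) → AdNil (fixList p φ l) (eigBound (Nat.card A) c) :=
    fun l hl => (h.adNil_eig (0 : A → ZMod p)).mono (fun v hv => mem_eig.2 fun a => by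
      rw [hv a (hl a), Pi.zero_apply, ZMod.val_zero, pow_zero, one_smul]) le_rfl
  intro k
  induction k with
  | zero =>
    intro l hl hlen
    refine hall l fun a => ?_
    have hu : l.toFinset = Finset.univ := Finset.eq_univ_of_card _ (le_antisymm (Finset.card_le_univ _)
      (by rw [List.toFinset_card_of_nodup hl, ← Nat.card_eq_fintype_card]; omega))
    exact List.mem_toFinset.1 (hu ▸ Finset.mem_univ a)
  | succ k ih =>
    intro l hl hlen
    by_cases hfull : ∀ a, a ∈ l
    · exact (hall l hfull).mono le_rfl (le_max_left _ _)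
    push Not at hfull
    obtain ⟨a, ha⟩ := hfull
    set N' := flagBound p (Nat.card A) c k
    have hN' : AdNil (fixList p φ (a :: l)) N' :=
      ih (a :: l) (List.nodup_cons.2 ⟨ha, hl⟩) (by simp only [List.length_cons]; omega)
    set K := fixList p φ l with hK
    let P : ZMod p → AddSubgroup (LL p G) := fun s => K ⊓
      (LinearMap.ker (rho p φ a - ((ζ p) ^ s.val) • LinearMap.id :
        LL p G →ₗ[R p] LL p G)).toAddSubgroup
    have hP : ∀ s v, v ∈ P s ↔ v ∈ K ∧ rho p φ a v = ((ζ p) ^ s.val) • v := fun s v => by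
      simp [P, LinearMap.mem_ker, sub_eq_zero]
    have hKlie : ∀ u ∈ K, ∀ v ∈ K, ⁅u, v⁆ ∈ K := fun u hu v hv b hb => by
      rw [rho_lie, hu b hb, hv b hb]
    have hgr : Graded P := fun i j x hx y hy => by
      rw [hP] at hx hy ⊢
      exact ⟨hKlie x hx.1 y hy.1, by rw [rho_lie, hx.2, hy.2, ll_smul, ζ_val_add]⟩
    have hzero : P 0 ≤ fixList p φ (a :: l) := fun v hv b hb => by
      rw [hP] at hv
      rcases List.mem_cons.1 hb with rfl | hb
      · rw [hv.2, ZMod.val_zero, pow_zero, one_smul]
      · exact hv.1 b hb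
    have hkre : ∀ i, der P (kre N' (p - 1) + N') i = ⊥ :=
      hgr.kreknin fun s => eq_bot_iff.2 ((adImg_mono le_top hzero N').trans hN'.le)
    have hder : ∀ j, dser K j ≤ AddSubgroup.closure {x | ∃ i, x ∈ der P j i} := by
      intro j
      induction j with
      | zero =>
        intro v hv
        rw [← sum_proj hcop (φ := φ) a v]
        refine sum_mem fun s _ => AddSubgroup.subset_closure ⟨s, (hP s _).2 ⟨fun b hb => ?_, ?_⟩⟩
        · rw [rho_proj_comm, hv b hb]
        · exact rho_proj hA hcop a s v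
      | succ j ihj =>
        rw [dser, brk_le_iff]
        intro x hx y hy
        refine lie_mem_closure_left (ihj hx) ?_
        rintro u ⟨i, hu⟩
        refine lie_mem_closure_right (ihj hy) ?_
        rintro v ⟨i', hv⟩
        exact AddSubgroup.subset_closure ⟨i + i', mem_br hu hv⟩
    have hzero' : dser K (kre N' (p - 1) + N') = ⊥ := by
      refine eq_bot_iff.2 ((hder _).trans ?_)
      rw [AddSubgroup.closure_le]
      rintro x ⟨i, hx⟩
      exact (hkre i).le hx
    have hspan : ∀ j, dser K j ≤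
        AddSubgroup.closure {x | ∃ χ : A → ZMod p, x ∈ eig p φ χ ∧ x ∈ dser K j} := by
      intro j
      induction j with
      | zero =>
        intro v hv
        set l' := (Finset.univ : Finset A).toList
        refine AddSubgroup.closure_mono ?_ (mem_closure_projList hcop (φ := φ) l'
          (Finset.nodup_toList _) v)
        rintro _ ⟨χ, rfl⟩
        refine ⟨χ, mem_eig.2 fun b =>
          rho_projList hA hcop χ l' (Finset.mem_toList.2 (Finset.mem_univ b)) v, fun b hb => ?_⟩
        beta_reduce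
        rw [projList_comm, hv b hb]
      | succ j ihj =>
        rw [dser, brk_le_iff]
        intro x hx y hy
        refine lie_mem_closure_left (ihj hx) ?_
        rintro u ⟨χ, hu, hu'⟩
        refine lie_mem_closure_right (ihj hy) ?_
        rintro v ⟨ψ, hv, hv'⟩
        exact AddSubgroup.subset_closure ⟨χ + ψ, lie_mem_eig hu hv, mem_brk hu' hv'⟩
    have hKK : brk K K ≤ K := brk_le_iff.2 hKlie
    have hres := AdNil.of_dser (fun χ : A → ZMod p => eig p φ χ)
      (m := eigBound (Nat.card A) c - 1)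
      (fun χ => by
        have := eigBound_pos (Nat.card A) c
        exact (h.adNil_eig χ).mono le_rfl (by omega))
      hKK hspan hzero'
    rw [Fintype.card_fun, ZMod.card, ← Nat.card_eq_fintype_card] at hres
    exact hres.mono le_rfl (le_max_right _ _)

/-- The bound on the class. -/
def classBound (p n c : ℕ) : ℕ := flagBound p n c n

/-- A group generated by special subgroups is nilpotent of bounded class. -/
theorem Special.class_le (h : Special φ p c N T) [Group.IsSolvable G] :
    (⊤ : Subgroup G).lowerCentralSeries (classBound p (Nat.card A) c) = ⊥ := by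
  set K := classBound p (Nat.card A) c
  have hnil := h.engel.isNilpotent
  have hA : AdNil (⊤ : AddSubgroup (LL p G)) K :=
    (h.adNil_fix (Nat.card A) [] List.nodup_nil (by simp)).mono
      (fun v _ a ha => absurd ha (List.not_mem_nil)) le_rfl
  have hmem : ∀ n x (hx : x ∈ gam G n),
      ((1 : R p) ⊗ₜ[ℤ] ι n x hx) ∈ adImg (⊤ : AddSubgroup (LL p G)) ⊤ n := by
    intro n
    induction n with
    | zero => exact fun _ _ => AddSubgroup.mem_top _
    | succ n ih =>
      intro x hx
      refine Subgroup.closure_induction (p := fun x _ => ∀ hx : x ∈ gam G (n + 1),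
        ((1 : R p) ⊗ₜ[ℤ] ι (n + 1) x hx) ∈ adImg (⊤ : AddSubgroup (LL p G)) ⊤ (n + 1)) ?_ ?_ ?_ ?_
        hx hx
      · rintro g ⟨a, ha, b, -, rfl⟩ hg
        have hb : b ∈ gam G 0 := Subgroup.mem_top b
        have e : ι (n + 1) ⁅a, b⁆ hg = ⁅ι n a ha, ι 0 b hb⁆ := by
          rw [lie_ι]
        rw [e, ← one_mul (1 : R p), ← br_tmul]
        exact mem_brk (ih a ha) (AddSubgroup.mem_top _)
      · intro h
        rw [ι_one, TensorProduct.tmul_zero]
        exact zero_mem _
      · intro a b ha hb iha ihb h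
        rw [ι_mul ha hb, TensorProduct.tmul_add]
        exact add_mem (iha _) (ihb _)
      · intro a ha iha h
        rw [ι_inv ha, TensorProduct.tmul_neg]
        exact neg_mem (iha _)
  have h1 : gam G K ≤ gam G (K + 1) := fun x hx => by
    have hz : (1 : R p) ⊗ₜ[ℤ] ι K x hx = (1 : R p) ⊗ₜ[ℤ] (0 : Gr G) := by
      rw [TensorProduct.tmul_zero, ← AddSubgroup.mem_bot, ← hA]
      exact hmem K x hx
    exact (ι_eq_zero hx).1 (tmul_one_injective hz)
  obtain ⟨m, hm⟩ := Subgroup.nilpotent_iff_lowerCentralSeries.1 hnil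
  have h3 : ∀ j, gam G K ≤ gam G (K + j) := by
    intro j
    induction j with
    | zero => exact le_rfl
    | succ j ihj =>
      refine h1.trans ?_
      show ⁅gam G K, (⊤ : Subgroup G)⁆ ≤ ⁅gam G (K + j), (⊤ : Subgroup G)⁆
      exact Subgroup.commutator_mono ihj le_rfl
  exact eq_bot_iff.2 ((h3 m).trans ((gam_anti G (Nat.le_add_left m K)).trans hm.le))

end CfsgLib.CentClass
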