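import Cfsg.Agent.FGSA.Higman
import Cfsg.Agent.CentClass.AdNil
import Cfsg.Agent.CentClass.Action

/-!
# Eigenspaces of an elementary abelian group on the extended graded Lie ring
-/

set_option autoImplicit false
set_option linter.unusedSectionVars false

namespace CfsgLib.CentClass

open CfsgLib.Higman CfsgLib.GrLie
open scoped TensorProduct

noncomputable local instance (priority := high) instBracketExt {p : ℕ} {G : Type*} [Group G] :
    Bracket (R p ⊗[ℤ] Gr G) (R p ⊗[ℤ] Gr G) :=
  ⟨(LieAlgebra.ExtendScalars.instLieRing ℤ (R p) (Gr G)).bracket⟩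

universe u v

variable (p : ℕ) [Fact p.Prime] {G : Type u} [Group G] [Finite G] {A : Type v} [CommGroup A]
  (φ : A →* MulAut G)

theorem mapAut_one (x : Gr G) : mapAut (1 : MulAut G) x = x := by
  refine GrLie.induction (P := fun x => mapAut (1 : MulAut G) x = x) (map_zero _) (fun n g hg => ?_)
    (fun a b ha hb => by rw [map_add, ha, hb]) x
  rw [mapAut_ι]
  exact ι_congr rfl rfl _ _

theorem mapAut_mul (α β : MulAut G) (x : Gr G) :
    mapAut (α * β) x = mapAut α (mapAut β x) := by
  refine GrLie.induction (P := fun x => mapAut (α * β) x = mapAut α (mapAut β x)) (by simp)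
    (fun n g hg => ?_) (fun a b ha hb => by simp only [map_add, ha, hb]) x
  rw [mapAut_ι, mapAut_ι, mapAut_ι]
  exact ι_congr rfl rfl _ _

/-- The action on the extended ring. -/
noncomputable def rho : A →* Module.End (R p) (LL p G) where
  toFun a := Higman.A (φ a)
  map_one' := by
    refine LinearMap.ext fun v => ?_
    induction v using TensorProduct.induction_on with
    | zero => exact map_zero _
    | add a b ha hb => rw [map_add, map_add, ha, hb]
    | tmul r x => rw [map_one, A_tmul, mapAut_one]; rfl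
  map_mul' a b := by
    refine LinearMap.ext fun v => ?_
    induction v using TensorProduct.induction_on with
    | zero => simp only [map_zero]
    | add a b ha hb => simp only [map_add, ha, hb]
    | tmul r x =>
      show Higman.A (φ (a * b)) (r ⊗ₜ[ℤ] x) = Higman.A (φ a) (Higman.A (φ b) (r ⊗ₜ[ℤ] x))
      rw [map_mul, A_tmul, A_tmul, A_tmul, mapAut_mul]

theorem rho_tmul (a : A) (r : R p) (x : Gr G) :
    rho p φ a (r ⊗ₜ[ℤ] x) = r ⊗ₜ[ℤ] mapAut (φ a) x := A_tmul _ r x

theorem rho_lie (a : A) (u v : LL p G) : rho p φ a ⁅u, v⁆ = ⁅rho p φ a u, rho p φ a v⁆ :=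
  A_lie (φ a) u v

/-- The eigenspace of a function on `A`. -/
noncomputable def eig (χ : A → ZMod p) : AddSubgroup (LL p G) :=
  ⨅ a : A, (LinearMap.ker (rho p φ a - ((ζ p) ^ (χ a).val) • LinearMap.id :
    LL p G →ₗ[R p] LL p G)).toAddSubgroup

variable {p φ}

theorem mem_eig {χ : A → ZMod p} {v : LL p G} :
    v ∈ eig p φ χ ↔ ∀ a, rho p φ a v = ((ζ p) ^ (χ a).val) • v := by
  simp [eig, AddSubgroup.mem_iInf, LinearMap.mem_ker, sub_eq_zero]

theorem lie_mem_eig {χ ψ : A → ZMod p} {u v : LL p G} (hu : u ∈ eig p φ χ) (hv : v ∈ eig p φ ψ) :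
    ⁅u, v⁆ ∈ eig p φ (χ + ψ) := by
  rw [mem_eig] at hu hv ⊢
  intro a
  rw [rho_lie, hu a, hv a, ll_smul, Pi.add_apply, ζ_val_add]

variable [Finite A] (hA : ∀ a : A, a ^ p = 1) (hcop : (Nat.card G).Coprime p)

include hcop in
theorem eq_zero_of_smul_zeta {d : ZMod p} (hd : d ≠ 0) {v : LL p G}
    (h : ((ζ p) ^ d.val) • v = v) : v = 0 := by
  obtain ⟨q, hq⟩ := exists_inv_p (G := G) hcop.symm
  have hk : ∀ k : ℕ, ((ζ p) ^ (d.val * k)) • v = v := by
    intro k
    induction k with
    | zero => simp
    | succ k ih => rw [Nat.mul_succ, pow_add, mul_smul, h, ih]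
  have h1 : ∀ t : ZMod p, ((ζ p) ^ (t * d).val) • v = v := fun t => by
    rw [ZMod.val_mul, ζ_pow_mod, mul_comm]
    exact hk t.val
  have h2 : (∑ t : ZMod p, (ζ p) ^ (t * d).val) • v = p • v := by
    rw [Finset.sum_smul]
    simp only [h1, Finset.sum_const, Finset.card_univ, ZMod.card]
  rw [sum_ζ_pow, if_neg hd, zero_smul] at h2
  rw [← hq v, ← h2, smul_zero]

/-- The inverse of `p` on the extended ring. -/
noncomputable def invP : ℕ := (exists_inv_p (p := p) (G := G) hcop.symm).choose

theorem invP_spec (v : LL p G) : invP (G := G) hcop • (p • v) = v :=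
  (exists_inv_p (p := p) (G := G) hcop.symm).choose_spec v

/-- The projection on the eigenspace `s` of `a`. -/
noncomputable def proj (φ : A →* MulAut G) (a : A) (s : ZMod p) : Module.End (R p) (LL p G) :=
  invP (G := G) hcop • ∑ k : ZMod p, ((ζ p) ^ (s * -k).val) • rho p φ (a ^ k.val)

theorem proj_apply (a : A) (s : ZMod p) (v : LL p G) :
    proj hcop φ a s v = invP (G := G) hcop •
      ∑ k : ZMod p, ((ζ p) ^ (s * -k).val) • rho p φ (a ^ k.val) v := by
  simp only [proj, LinearMap.smul_apply, LinearMap.sum_apply]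

include hA in
theorem rho_proj (a : A) (s : ZMod p) (v : LL p G) :
    rho p φ a (proj hcop φ a s v) = ((ζ p) ^ s.val) • proj hcop φ a s v := by
  rw [proj_apply, map_nsmul, map_sum, smul_comm ((ζ p) ^ s.val), Finset.smul_sum (r := (ζ p) ^ s.val)]
  congr 1
  refine Fintype.sum_equiv (Equiv.addRight (1 : ZMod p)) _ _ fun k => ?_
  have he : a * a ^ k.val = a ^ (k + 1).val := by
    rw [ZMod.val_add, ZMod.val_one, ← pow_succ']
    exact (pow_mod_orderOf a (k.val + 1)).symm.trans
      ((congrArg (a ^ ·) (Nat.mod_mod_of_dvd _ (orderOf_dvd_of_pow_eq_one (hA a))).symm).trans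
        (pow_mod_orderOf a _))
  rw [map_smul, ← Module.End.mul_apply, ← map_mul, he, Equiv.coe_addRight, smul_smul, ← ζ_val_add]
  congr 3
  ring

theorem rho_proj_comm (a b : A) (s : ZMod p) (v : LL p G) :
    rho p φ b (proj hcop φ a s v) = proj hcop φ a s (rho p φ b v) := by
  simp only [proj_apply, map_nsmul, map_sum, map_smul]
  congr 1
  refine Finset.sum_congr rfl fun k _ => ?_
  rw [← Module.End.mul_apply, ← map_mul, mul_comm b, map_mul, Module.End.mul_apply]

theorem sum_proj (a : A) (v : LL p G) : ∑ s : ZMod p, proj hcop φ a s v = v := by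
  simp only [proj_apply, ← Finset.smul_sum]
  rw [Finset.sum_comm]
  simp only [← Finset.sum_smul]
  rw [Finset.sum_eq_single (0 : ZMod p)]
  · rw [sum_ζ_pow, if_pos neg_zero, ZMod.val_zero, pow_zero, map_one, Module.End.one_apply,
      Nat.cast_smul_eq_nsmul, invP_spec]
  · intro k _ hk
    rw [sum_ζ_pow, if_neg (neg_ne_zero.2 hk), zero_smul]
  · exact fun h => absurd (Finset.mem_univ _) h

theorem proj_of_eigen {a : A} {s : ZMod p} {v : LL p G}
    (h : rho p φ a v = ((ζ p) ^ s.val) • v) : proj hcop φ a s v = v := by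
  have hk : ∀ k : ℕ, rho p φ (a ^ k) v = ((ζ p) ^ (s.val * k)) • v := by
    intro k
    induction k with
    | zero => simp
    | succ k ih =>
      rw [pow_succ', map_mul, Module.End.mul_apply, ih, map_smul, h, smul_smul, ← pow_add,
        Nat.mul_succ]
  have h1 : ∀ k : ZMod p, ((ζ p) ^ (s * -k).val) • rho p φ (a ^ k.val) v = v := fun k => by
    rw [hk, ← ζ_pow_mod p (s.val * k.val), ← ZMod.val_mul, smul_smul, ← ζ_val_add, mul_neg,
      neg_add_cancel, ZMod.val_zero, pow_zero, one_smul]
  rw [proj_apply]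
  simp only [h1, Finset.sum_const, Finset.card_univ, ZMod.card]
  exact invP_spec hcop v

theorem proj_mem (U : Submodule (R p) (LL p G)) (a : A) (s : ZMod p)
    (hU : ∀ k : ℕ, ∀ u ∈ U, rho p φ (a ^ k) u ∈ U) {v : LL p G} (hv : v ∈ U) :
    proj hcop φ a s v ∈ U := by
  rw [proj_apply]
  exact nsmul_mem (U.sum_mem fun k _ => U.smul_mem _ (hU k.val v hv)) _

/-- The projection attached to `χ` on the elements of a list. -/
noncomputable def projList (φ : A →* MulAut G) (χ : A → ZMod p) : List A → Module.End (R p) (LL p G)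
  | [] => 1
  | a :: l => proj hcop φ a (χ a) * projList φ χ l

theorem projList_comm (χ : A → ZMod p) (b : A) : ∀ (l : List A) (v : LL p G),
    rho p φ b (projList hcop φ χ l v) = projList hcop φ χ l (rho p φ b v)
  | [], _ => rfl
  | a :: l, v => by
    simp only [projList, Module.End.mul_apply]
    rw [rho_proj_comm, projList_comm χ b l]

include hA in
theorem rho_projList (χ : A → ZMod p) : ∀ (l : List A) {a : A}, a ∈ l → ∀ v : LL p G,
    rho p φ a (projList hcop φ χ l v) = ((ζ p) ^ (χ a).val) • projList hcop φ χ l v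
  | [], a, h, _ => by simp at h
  | b :: l, a, h, v => by
    simp only [projList, Module.End.mul_apply]
    rcases List.mem_cons.1 h with rfl | h
    · rw [rho_proj hA]
    · rw [rho_proj_comm, rho_projList χ l h, map_smul]

theorem projList_of_eig {χ : A → ZMod p} {v : LL p G} (hv : v ∈ eig p φ χ) :
    ∀ l : List A, projList hcop φ χ l v = v
  | [] => rfl
  | a :: l => by
    simp only [projList, Module.End.mul_apply]
    rw [projList_of_eig hv l, proj_of_eigen hcop (mem_eig.1 hv a)]

theorem projList_congr {χ ψ : A → ZMod p} : ∀ (l : List A), (∀ a ∈ l, χ a = ψ a) →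
    projList hcop φ χ l = projList hcop φ ψ l
  | [], _ => rfl
  | a :: l, h => by
    simp only [projList]
    rw [h a (by simp), projList_congr l fun b hb => h b (by simp [hb])]

theorem projList_mem (U : Submodule (R p) (LL p G)) (hU : ∀ a : A, ∀ u ∈ U, rho p φ a u ∈ U)
    (χ : A → ZMod p) : ∀ (l : List A) {v : LL p G}, v ∈ U → projList hcop φ χ l v ∈ U
  | [], _, hv => hv
  | a :: l, _, hv => by
    simp only [projList, Module.End.mul_apply]
    exact proj_mem hcop U a _ (fun k u hu => hU _ u hu) (projList_mem U hU χ l hv)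

theorem mem_closure_projList : ∀ (l : List A), l.Nodup → ∀ v : LL p G,
    v ∈ AddSubgroup.closure (Set.range fun χ : A → ZMod p => projList hcop φ χ l v)
  | [], _, v => AddSubgroup.subset_closure ⟨0, rfl⟩
  | a :: l, hl, v => by
    classical
    obtain ⟨ha, hl⟩ := List.nodup_cons.1 hl
    refine (AddSubgroup.closure_le _).2 ?_ (mem_closure_projList l hl v)
    rintro _ ⟨χ, rfl⟩
    beta_reduce
    rw [SetLike.mem_coe, ← sum_proj hcop (φ := φ) a (projList hcop φ χ l v)]
    refine sum_mem fun s _ => AddSubgroup.subset_closure ⟨Function.update χ a s, ?_⟩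
    simp only [projList, Module.End.mul_apply, Function.update_self]
    rw [projList_congr hcop l fun b hb => Function.update_of_ne (ne_of_mem_of_not_mem hb ha) s χ]

/-- The span of a subgroup of the graded ring. -/
noncomputable def rspan (p : ℕ) (K : AddSubgroup (Gr G)) : Submodule (R p) (LL p G) :=
  Submodule.span (R p) ((fun x => (1 : R p) ⊗ₜ[ℤ] x) '' (K : Set (Gr G)))

theorem tmul_mem_rspan {K : AddSubgroup (Gr G)} {x : Gr G} (hx : x ∈ K) (r : R p) :
    r ⊗ₜ[ℤ] x ∈ rspan p K := by
  have h : r ⊗ₜ[ℤ] x = r • ((1 : R p) ⊗ₜ[ℤ] x) := by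
    rw [TensorProduct.smul_tmul', smul_eq_mul, mul_one]
  rw [h]
  exact Submodule.smul_mem _ _ (Submodule.subset_span ⟨x, hx, rfl⟩)

theorem rspan_top (v : LL p G) : v ∈ rspan p (⊤ : AddSubgroup (Gr G)) := by
  induction v using TensorProduct.induction_on with
  | zero => exact zero_mem _
  | add a b ha hb => exact add_mem ha hb
  | tmul r x => exact tmul_mem_rspan (AddSubgroup.mem_top x) r

theorem lie_mem_rspan {K M : AddSubgroup (Gr G)} {u v : LL p G} (hu : u ∈ rspan p K)
    (hv : v ∈ rspan p M) : ⁅u, v⁆ ∈ rspan p (brk K M) := by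
  induction hu using Submodule.span_induction with
  | zero => rw [ll_zero_lie]; exact zero_mem _
  | add a b _ _ ha hb => rw [ll_add_lie]; exact add_mem ha hb
  | smul c a _ ha =>
    rw [← one_smul (R p) v, ll_smul, mul_one]
    exact Submodule.smul_mem _ _ ha
  | mem a ha =>
    obtain ⟨x, hx, rfl⟩ := ha
    induction hv using Submodule.span_induction with
    | zero => rw [ll_lie_zero]; exact zero_mem _
    | add a b _ _ ha hb => rw [ll_lie_add]; exact add_mem ha hb
    | smul c a _ ha =>
      beta_reduce at ha ⊢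
      rw [← one_smul (R p) ((1 : R p) ⊗ₜ[ℤ] x), ll_smul, one_mul]
      exact Submodule.smul_mem _ _ ha
    | mem a ha =>
      obtain ⟨y, hy, rfl⟩ := ha
      rw [br_tmul, one_mul]
      exact tmul_mem_rspan (mem_brk hx hy) 1

theorem AdNil.rspan {K : AddSubgroup (Gr G)} {N : ℕ} (h : AdNil K N) :
    AdNil (L := LL p G) (rspan p K).toAddSubgroup N := by
  have key : ∀ n, adImg (⊤ : AddSubgroup (LL p G)) (CentClass.rspan p K).toAddSubgroup n ≤
      (CentClass.rspan p (adImg ⊤ K n)).toAddSubgroup := by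
    intro n
    induction n with
    | zero => exact fun v _ => rspan_top v
    | succ n ih =>
      rw [adImg, brk_le_iff]
      exact fun u hu v hv => lie_mem_rspan (ih hu) hv
  refine eq_bot_iff.2 ((key N).trans ?_)
  rw [h]
  intro v hv
  have h0 : CentClass.rspan p (⊥ : AddSubgroup (Gr G)) = ⊥ := by
    rw [CentClass.rspan, Submodule.span_eq_bot]
    rintro _ ⟨x, hx, rfl⟩
    rw [SetLike.mem_coe, AddSubgroup.mem_bot] at hx
    beta_reduce
    rw [hx, TensorProduct.tmul_zero]
  rw [Submodule.mem_toAddSubgroup, h0, Submodule.mem_bot] at hv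
  exact (AddSubgroup.mem_bot).2 hv

end CfsgLib.CentClass
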