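import Cfsg.Agent.CentClass.Class
import Cfsg.Agent.SFTCor.FittingSolvable
import Cfsg.Agent.S0515

/-!
# Special subgroups of the lower central and derived series
-/

set_option autoImplicit false
set_option linter.unusedSectionVars false
set_option linter.style.haveILetI false

namespace CfsgLib.CentClass

open Subgroup
open scoped commutatorElement

universe u v

variable {G : Type u} [Group G] {A : Type v} [CommGroup A] {φ : A →* MulAut G} {p : ℕ}

/-- Commutators of closures. -/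
theorem comm_closure_le {S : Subgroup G} {X Y : Set G} (hX : X ⊆ normalizer (S : Set G))
    (hY : Y ⊆ normalizer (S : Set G)) (h : ∀ x ∈ X, ∀ y ∈ Y, ⁅x, y⁆ ∈ S) :
    ⁅closure X, closure Y⁆ ≤ S := by
  set Nm := normalizer (S : Set G) with hNm
  set π := QuotientGroup.mk' (S.subgroupOf Nm)
  have hXN : closure X ≤ Nm := (closure_le _).2 hX
  have hYN : closure Y ≤ Nm := (closure_le _).2 hY
  have h1 : ∀ x ∈ X, ∀ y : Nm, (y : G) ∈ closure Y → ∀ hx : x ∈ Nm, ⁅π ⟨x, hx⟩, π y⁆ = 1 := by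
    intro x hx y hy hxN
    let W : Subgroup G :=
      { carrier := {y | ∃ hy : y ∈ Nm, Commute (π ⟨x, hxN⟩) (π ⟨y, hy⟩)}
        one_mem' := ⟨one_mem _, by
          rw [show (⟨1, one_mem Nm⟩ : Nm) = 1 from rfl, map_one]; exact Commute.one_right _⟩
        mul_mem' := by
          rintro a b ⟨ha, ha'⟩ ⟨hb, hb'⟩
          refine ⟨mul_mem ha hb, ?_⟩
          rw [show (⟨a * b, mul_mem ha hb⟩ : Nm) = ⟨a, ha⟩ * ⟨b, hb⟩ from rfl, map_mul]
          exact ha'.mul_right hb'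
        inv_mem' := by
          rintro a ⟨ha, ha'⟩
          refine ⟨inv_mem ha, ?_⟩
          rw [show (⟨a⁻¹, inv_mem ha⟩ : Nm) = (⟨a, ha⟩ : Nm)⁻¹ from rfl, map_inv]
          exact ha'.inv_right }
    have hle : closure Y ≤ W := (closure_le _).2 fun z hz =>
      ⟨hY hz, by
        rw [← commutatorElement_eq_one_iff_commute, ← map_commutatorElement, QuotientGroup.mk'_apply,
          QuotientGroup.eq_one_iff, mem_subgroupOf]
        exact h x hx z hz⟩
    obtain ⟨_, hy'⟩ := hle hy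
    rw [commutatorElement_eq_one_iff_commute]
    exact hy'
  rw [commutator_le]
  intro x hx y hy
  let W : Subgroup G :=
    { carrier := {x | ∃ hx : x ∈ Nm, Commute (π ⟨x, hx⟩) (π ⟨y, hYN hy⟩)}
      one_mem' := ⟨one_mem _, by
        rw [show (⟨1, one_mem Nm⟩ : Nm) = 1 from rfl, map_one]; exact Commute.one_left _⟩
      mul_mem' := by
        rintro a b ⟨ha, ha'⟩ ⟨hb, hb'⟩
        refine ⟨mul_mem ha hb, ?_⟩
        rw [show (⟨a * b, mul_mem ha hb⟩ : Nm) = ⟨a, ha⟩ * ⟨b, hb⟩ from rfl, map_mul]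
        exact ha'.mul_left hb'
      inv_mem' := by
        rintro a ⟨ha, ha'⟩
        refine ⟨inv_mem ha, ?_⟩
        rw [show (⟨a⁻¹, inv_mem ha⟩ : Nm) = (⟨a, ha⟩ : Nm)⁻¹ from rfl, map_inv]
        exact ha'.inv_left }
  have hle : closure X ≤ W := (closure_le _).2 fun z hz =>
    ⟨hX hz, commutatorElement_eq_one_iff_commute.1 (h1 z hz ⟨y, hYN hy⟩ hy (hX hz))⟩
  obtain ⟨hxN, hx'⟩ := hle hx
  rw [← commutatorElement_eq_one_iff_commute, ← map_commutatorElement, QuotientGroup.mk'_apply,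
    QuotientGroup.eq_one_iff, mem_subgroupOf] at hx'
  exact hx'

theorem conj_mem_lcs (C : Subgroup G) (j : ℕ) {g x : G} (hg : g ∈ C)
    (hx : x ∈ C.lowerCentralSeries j) : g * x * g⁻¹ ∈ C.lowerCentralSeries j := by
  have hC : C.map (MulAut.conj g).toMonoidHom ≤ C := by
    rintro _ ⟨y, hy, rfl⟩
    exact mul_mem (mul_mem hg hy) (inv_mem hg)
  have h : (C.lowerCentralSeries j).map (MulAut.conj g).toMonoidHom ≤ C.lowerCentralSeries j := by
    rw [map_lowerCentralSeries]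
    exact lcs_mono hC j
  exact h ⟨x, hx, rfl⟩

theorem conj_mem_dcom (C : Subgroup G) (j : ℕ) {g x : G} (hg : g ∈ C) (hx : x ∈ dcom C j) :
    g * x * g⁻¹ ∈ dcom C j := by
  have hC : C.map (MulAut.conj g).toMonoidHom ≤ C := by
    rintro _ ⟨y, hy, rfl⟩
    exact mul_mem (mul_mem hg hy) (inv_mem hg)
  have h : (dcom C j).map (MulAut.conj g).toMonoidHom ≤ dcom C j := by
    rw [dcom_map]
    exact dcom_mono hC j
  exact h ⟨x, hx, rfl⟩

theorem dcom_top : ∀ j, dcom (⊤ : Subgroup G) j = derivedSeries G j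
  | 0 => rfl
  | j + 1 => by rw [dcom, dcom_top j, derivedSeries_succ]

variable (φ)

/-- Special subgroups of the lower central series. -/
def SpL (p : ℕ) : ℕ → Subgroup G → Prop
  | 0, U => ∃ H, Hyper p H ∧ U = fxAll φ H
  | j + 1, U => ∃ V H H', SpL p j V ∧ Hyper p H ∧ Hyper p H' ∧ U = ⁅V, fxAll φ H⁆ ⊓ fxAll φ H'

/-- Special subgroups of the derived series. -/
def SpD (p : ℕ) : ℕ → Subgroup G → Prop
  | 0, U => ∃ H, Hyper p H ∧ U = fxAll φ H
  | j + 1, U => ∃ V W H, SpD p j V ∧ SpD p j W ∧ Hyper p H ∧ U = ⁅V, W⁆ ⊓ fxAll φ H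

variable {φ}

theorem SpL.basic : ∀ {j : ℕ} {U : Subgroup G}, SpL φ p j U →
    Inv φ U ∧ (∃ H, Hyper p H ∧ U ≤ fxAll φ H)
  | 0, _, ⟨H, hH, h⟩ => by subst h; exact ⟨inv_fxAll φ H, H, hH, le_rfl⟩
  | j + 1, _, ⟨V, H, H', hV, _, hH', h⟩ => by
    subst h
    exact ⟨((SpL.basic hV).1.commutator φ (inv_fxAll φ H)).inf φ (inv_fxAll φ H'), H', hH',
      inf_le_right⟩

theorem SpD.basic : ∀ {j : ℕ} {U : Subgroup G}, SpD φ p j U →
    Inv φ U ∧ (∃ H, Hyper p H ∧ U ≤ fxAll φ H)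
  | 0, _, ⟨H, hH, h⟩ => by subst h; exact ⟨inv_fxAll φ H, H, hH, le_rfl⟩
  | j + 1, _, ⟨V, W, H, hV, hW, hH, h⟩ => by
    subst h
    exact ⟨((SpD.basic hV).1.commutator φ (SpD.basic hW).1).inf φ (inv_fxAll φ H), H, hH,
      inf_le_right⟩

theorem SpL.mono : ∀ {j : ℕ} {U : Subgroup G}, SpL φ p (j + 1) U → ∃ V, SpL φ p j V ∧ U ≤ V
  | 0, _, ⟨V, H, H', _, _, hH', h⟩ => by
    subst h
    exact ⟨fxAll φ H', ⟨H', hH', rfl⟩, inf_le_right⟩
  | j + 1, _, ⟨V, H, H', hV, hH, hH', h⟩ => by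
    subst h
    obtain ⟨V', hV', hle⟩ := SpL.mono hV
    exact ⟨_, ⟨V', H, H', hV', hH, hH', rfl⟩, inf_le_inf_right _ (commutator_mono hle le_rfl)⟩

theorem SpD.mono : ∀ {j : ℕ} {U : Subgroup G}, SpD φ p (j + 1) U → ∃ V, SpD φ p j V ∧ U ≤ V
  | 0, _, ⟨V, W, H, _, _, hH, h⟩ => by
    subst h
    exact ⟨fxAll φ H, ⟨H, hH, rfl⟩, inf_le_right⟩
  | j + 1, _, ⟨V, W, H, hV, hW, hH, h⟩ => by
    subst h
    obtain ⟨V', hV', hle⟩ := SpD.mono hV
    obtain ⟨W', hW', hle'⟩ := SpD.mono hW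
    exact ⟨_, ⟨V', W', H, hV', hW', hH, rfl⟩, inf_le_inf_right _ (commutator_mono hle hle')⟩

theorem fxAll_le_fx {B : Subgroup A} {a : A} (ha : a ∈ B) : fxAll φ B ≤ fx φ a :=
  fun _ hg => (mem_fxAll φ).1 hg a ha

theorem card_inf_bound [Finite A] {B C : Subgroup A} {e f : ℕ}
    (hB : Nat.card A ≤ p ^ e * Nat.card B) (hC : Nat.card A ≤ p ^ f * Nat.card C) :
    Nat.card A ≤ p ^ (e + f) * Nat.card (B ⊓ C : Subgroup A) := by
  have h1 : (B ⊓ C).index ≤ B.index * C.index := index_inf_le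
  have hB' : B.index ≤ p ^ e := Nat.le_of_mul_le_mul_right
    ((index_mul_card B).le.trans hB) Nat.card_pos
  have hC' : C.index ≤ p ^ f := Nat.le_of_mul_le_mul_right
    ((index_mul_card C).le.trans hC) Nat.card_pos
  rw [← index_mul_card (B ⊓ C), pow_add]
  exact Nat.mul_le_mul_right _ (h1.trans (Nat.mul_le_mul hB' hC'))

theorem SpL.rank [Finite A] : ∀ {j : ℕ} {U : Subgroup G}, SpL φ p j U →
    ∃ B : Subgroup A, Nat.card A ≤ p ^ (j + 1) * Nat.card B ∧
      ∀ a ∈ B, U ≤ (fx φ a).lowerCentralSeries j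
  | 0, _, ⟨H, hH, h⟩ => by
    subst h
    exact ⟨H, by rwa [zero_add, pow_one], fun a ha => fxAll_le_fx ha⟩
  | j + 1, _, ⟨V, H, H', hV, hH, _, h⟩ => by
    subst h
    obtain ⟨B, hB, hBV⟩ := SpL.rank hV
    exact ⟨B ⊓ H, card_inf_bound hB (by rwa [pow_one]), fun a ha =>
      inf_le_left.trans (commutator_mono (hBV a ha.1) (fxAll_le_fx ha.2))⟩

theorem SpD.rank [Finite A] : ∀ {j : ℕ} {U : Subgroup G}, SpD φ p j U →
    ∃ B : Subgroup A, Nat.card A ≤ p ^ (2 ^ j) * Nat.card B ∧ ∀ a ∈ B, U ≤ dcom (fx φ a) j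
  | 0, _, ⟨H, hH, h⟩ => by
    subst h
    exact ⟨H, by rwa [pow_zero, pow_one], fun a ha => fxAll_le_fx ha⟩
  | j + 1, _, ⟨V, W, H, hV, hW, _, h⟩ => by
    subst h
    obtain ⟨B, hB, hBV⟩ := SpD.rank hV
    obtain ⟨C, hC, hCW⟩ := SpD.rank hW
    refine ⟨B ⊓ C, ?_, fun a ha => inf_le_left.trans (commutator_mono (hBV a ha.1) (hCW a ha.2))⟩
    rw [pow_succ, Nat.mul_two]
    exact card_inf_bound hB hC

section Finite

variable [Finite A] [Finite G]

theorem commutator_le_closure_special (h : Hyp (G := G) (A := A) p) {V W : Subgroup G}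
    (hV : Inv φ V) (hW : Inv φ W) {Sp : Subgroup G → Prop}
    (hSp : ∀ H, Hyper p H → Sp (⁅V, W⁆ ⊓ fxAll φ H)) :
    ⁅V, W⁆ ≤ closure {g | ∃ U, Sp U ∧ g ∈ U} := by
  refine (h.eq_closure_hyper (hV.commutator φ hW)).trans ((closure_le _).2 ?_)
  rintro g ⟨hg, H, hH, hgH⟩
  exact subset_closure ⟨_, hSp H hH, hg, hgH⟩

theorem subset_normalizer_of_comm {S : Subgroup G} {X Y : Set G} (hS : S ≤ closure X)
    (hXS : X ⊆ S) (hYinv : ∀ y ∈ Y, y⁻¹ ∈ Y) (h : ∀ x ∈ X, ∀ y ∈ Y, ⁅x, y⁆ ∈ S) :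
    Y ⊆ normalizer (S : Set G) := by
  have one : ∀ y ∈ Y, ∀ g ∈ S, y * g * y⁻¹ ∈ S := by
    intro y hy g hg
    have hle : closure X ≤ S.comap (MulAut.conj y).toMonoidHom := (closure_le _).2 fun x hx => by
      show y * x * y⁻¹ ∈ S
      have e : y * x * y⁻¹ = (⁅x, y⁆)⁻¹ * x := by simp only [commutatorElement_def]; group
      rw [e]
      exact mul_mem (inv_mem (h x hx y hy)) (hXS hx)
    exact hle (hS hg)
  intro y hy
  rw [SetLike.mem_coe, mem_normalizer_iff]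
  intro g
  refine ⟨one y hy g, fun hg => ?_⟩
  have := one y⁻¹ (hYinv y hy) _ hg
  simpa [mul_assoc] using this

/-- The terms of the lower central series are generated by special subgroups. -/
theorem SpL.gen (h : Hyp (G := G) (A := A) p) : ∀ j,
    (⊤ : Subgroup G).lowerCentralSeries j = closure {g | ∃ U, SpL φ p j U ∧ g ∈ U} := by
  intro j
  induction j with
  | zero =>
    refine le_antisymm ((h.eq_closure_hyper (inv_top φ)).trans ((closure_le _).2 ?_)) le_top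
    rintro g ⟨-, H, hH, hg⟩
    exact subset_closure ⟨_, ⟨H, hH, rfl⟩, hg⟩
  | succ j ih =>
    set X := {g | ∃ U, SpL φ p j U ∧ g ∈ U} with hXdef
    set Y := {g | ∃ U, SpL φ p 0 U ∧ g ∈ U} with hYdef
    set Z := {g | ∃ U, SpL φ p (j + 1) U ∧ g ∈ U} with hZdef
    have h0 : closure Y = ⊤ := by
      refine eq_top_iff.2 ((h.eq_closure_hyper (inv_top φ)).trans ((closure_le _).2 ?_))
      rintro g ⟨-, H, hH, hg⟩
      exact subset_closure ⟨_, ⟨H, hH, rfl⟩, hg⟩
    have hXY : ∀ x ∈ X, ∀ y ∈ Y, ⁅x, y⁆ ∈ closure Z := by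
      rintro x ⟨V, hV, hx⟩ y ⟨_, ⟨H, hH, rfl⟩, hy⟩
      exact commutator_le_closure_special h (SpL.basic hV).1 (inv_fxAll φ H)
        (Sp := SpL φ p (j + 1)) (fun H' hH' => ⟨V, H, H', hV, hH, hH', rfl⟩)
        (commutator_mem_commutator hx hy)
    have hY : Y ⊆ normalizer (closure Z : Set G) :=
      subset_normalizer_of_comm le_rfl subset_closure
        (by rintro y ⟨U, hU, hy⟩; exact ⟨U, hU, inv_mem hy⟩) (by
          rintro z ⟨U, hU, hz⟩ y hy
          obtain ⟨V, hV, hle⟩ := SpL.mono hU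
          exact hXY z ⟨V, hV, hle hz⟩ y hy)
    have hall : ∀ g : G, g ∈ normalizer (closure Z : Set G) := fun g =>
      (closure_le _).2 hY (h0 ▸ mem_top g)
    refine le_antisymm ?_ ((closure_le _).2 ?_)
    · show ⁅(⊤ : Subgroup G).lowerCentralSeries j, (⊤ : Subgroup G)⁆ ≤ closure Z
      rw [ih, ← h0]
      exact comm_closure_le (fun g _ => hall g) hY hXY
    · rintro g ⟨U, ⟨V, H, H', hV, -, -, rfl⟩, hg⟩
      exact commutator_mono (ih ▸ fun x hx => subset_closure ⟨V, hV, hx⟩) le_top hg.1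

/-- The terms of the derived series are generated by special subgroups. -/
theorem SpD.gen (h : Hyp (G := G) (A := A) p) : ∀ j,
    derivedSeries G j = closure {g | ∃ U, SpD φ p j U ∧ g ∈ U} := by
  intro j
  induction j with
  | zero =>
    rw [derivedSeries_zero]
    refine le_antisymm ((h.eq_closure_hyper (inv_top φ)).trans ((closure_le _).2 ?_)) le_top
    rintro g ⟨-, H, hH, hg⟩
    exact subset_closure ⟨_, ⟨H, hH, rfl⟩, hg⟩
  | succ j ih =>
    set X := {g | ∃ U, SpD φ p j U ∧ g ∈ U} with hXdef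
    set Z := {g | ∃ U, SpD φ p (j + 1) U ∧ g ∈ U} with hZdef
    have hXX : ∀ x ∈ X, ∀ y ∈ X, ⁅x, y⁆ ∈ closure Z := by
      rintro x ⟨V, hV, hx⟩ y ⟨W, hW, hy⟩
      exact commutator_le_closure_special h (SpD.basic hV).1 (SpD.basic hW).1
        (Sp := SpD φ p (j + 1)) (fun H hH => ⟨V, W, H, hV, hW, hH, rfl⟩)
        (commutator_mem_commutator hx hy)
    have hX : X ⊆ normalizer (closure Z : Set G) :=
      subset_normalizer_of_comm le_rfl subset_closure
        (by rintro y ⟨U, hU, hy⟩; exact ⟨U, hU, inv_mem hy⟩) (by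
          rintro z ⟨U, hU, hz⟩ y hy
          obtain ⟨V, hV, hle⟩ := SpD.mono hU
          exact hXX z ⟨V, hV, hle hz⟩ y hy)
    rw [derivedSeries_succ]
    refine le_antisymm ?_ ((closure_le _).2 ?_)
    · rw [ih]
      exact comm_closure_le hX hX hXX
    · rintro g ⟨U, ⟨V, W, H, hV, hW, -, rfl⟩, hg⟩
      exact commutator_mono (ih ▸ fun x hx => subset_closure ⟨V, hV, hx⟩)
        (ih ▸ fun x hx => subset_closure ⟨W, hW, hx⟩) hg.1

/-- The abstract conclusion. -/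
theorem class_of_family [Fact p.Prime] [Group.IsSolvable G] (h : Hyp (G := G) (A := A) p)
    {c : ℕ} (Q : Subgroup G) (hQ : Inv φ Q) (Sp : Subgroup G → Prop) (M : A → Subgroup G)
    (hgen : Q = closure {g | ∃ U, Sp U ∧ g ∈ U})
    (hbasic : ∀ U, Sp U → Inv φ U ∧ ∃ H, Hyper p H ∧ U ≤ fxAll φ H)
    (hrank : ∀ U, Sp U → ∃ B : Subgroup A, p ^ 2 ≤ Nat.card B ∧ ∀ a ∈ B, a ≠ 1 → U ≤ M a)
    (hcomm : ∀ U V, Sp U → Sp V → ∀ H, Hyper p H → ∃ W, Sp W ∧ ⁅U, V⁆ ⊓ fxAll φ H ≤ W)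
    (hM : ∀ a, a ≠ 1 → M a ≤ fx φ a ∧ (M a).lowerCentralSeries c = ⊥ ∧
      ∀ g ∈ fx φ a, ∀ x ∈ M a, g * x * g⁻¹ ∈ M a) :
    Q.lowerCentralSeries (classBound p (Nat.card A) c) = ⊥ := by
  set ψ := restr φ hQ
  have hsub : ∀ U, Sp U → U ≤ Q := fun U hU => hgen ▸ fun x hx => subset_closure ⟨U, hU, hx⟩
  have hfx : ∀ (H : Subgroup A) (g : Q), g ∈ fxAll ψ H ↔ (g : G) ∈ fxAll φ H := fun H g => by
    simp only [mem_fxAll, ψ]
    exact forall₂_congr fun a _ => ⟨fun e => congrArg Subtype.val e, fun e => Subtype.ext e⟩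
  have hS : Special ψ p c (fun a => (M a).subgroupOf Q)
      (fun t : {U : Subgroup G // Sp U} => t.1.subgroupOf Q) := by
    refine ⟨⟨h.prime, h.exp, h.cop.coprime_dvd_left (card_subgroup_dvd_card Q)⟩, fun a ha g hg => ?_,
      fun a ha g hg x hx => ?_, fun a ha => ?_, fun t a g hg => (hbasic t.1 t.2).1 a g hg,
      fun t => ?_, ?_, fun t t' H hH => ?_⟩
    · exact Subtype.ext ((hM a ha).1 hg)
    · exact (hM a ha).2.2 g (congrArg Subtype.val hg) x hx
    · refine map_injective Q.subtype_injective ?_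
      rw [map_lowerCentralSeries, Subgroup.map_bot, eq_bot_iff, ← (hM a ha).2.1]
      refine lcs_mono ?_ c
      rw [subgroupOf_map_subtype]
      exact inf_le_left
    · obtain ⟨B, hB, hBU⟩ := hrank t.1 t.2
      exact ⟨B, hB, fun a ha ha1 x hx => hBU a ha ha1 hx⟩
    · refine map_injective Q.subtype_injective ?_
      rw [MonoidHom.map_closure, ← MonoidHom.range_eq_map, range_subtype]
      refine le_antisymm ((closure_le _).2 (by rintro _ ⟨g, -, rfl⟩; exact g.2)) ?_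
      conv_lhs => rw [hgen]
      refine closure_mono ?_
      rintro g ⟨U, hU, hg⟩
      obtain ⟨H, hH, hle⟩ := (hbasic U hU).2
      exact ⟨⟨g, hsub U hU hg⟩, ⟨⟨U, hU⟩, H, hH, hg, (hfx H ⟨g, hsub U hU hg⟩).2 (hle hg)⟩, rfl⟩
    · obtain ⟨W, hW, hle⟩ := hcomm t.1 t'.1 t.2 t'.2 H hH
      refine ⟨⟨W, hW⟩, fun x hx => hle ⟨?_, (hfx H x).1 hx.2⟩⟩
      have h2 : ((x : Q) : G) ∈ (⁅t.1.subgroupOf Q, t'.1.subgroupOf Q⁆).map Q.subtype :=
        ⟨x, hx.1, rfl⟩
      rw [map_commutator, subgroupOf_map_subtype, subgroupOf_map_subtype] at h2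
      exact commutator_mono inf_le_left inf_le_left h2
  have hc := hS.class_le
  have := congrArg (Subgroup.map Q.subtype) hc
  rwa [map_lowerCentralSeries, ← MonoidHom.range_eq_map, range_subtype, Subgroup.map_bot] at this

/-- Solvability from the fixed subgroups. -/
theorem isSolvable_of_fixed [Fact p.Prime] (h : Hyp (G := G) (A := A) p)
    (hrank : p ^ 3 ≤ Nat.card A) (hC : ∀ a : A, a ≠ 1 → Group.IsSolvable (fx φ a)) :
    Group.IsSolvable G := by
  have hcop : ¬ p ∣ Nat.card G := fun hd => by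
    have := Nat.Coprime.coprime_dvd_left hd h.cop
    rw [Nat.coprime_self] at this
    exact h.prime.one_lt.ne' this
  obtain ⟨hcomm, hpow⟩ := SFTCor.inr_range_elementary φ h.exp
  have hK : Group.IsSolvable (SemidirectProduct.inl : G →* G ⋊[φ] A).range := by
    refine Cfsg.Agent.S0515.result p (SemidirectProduct.inr : A →* G ⋊[φ] A).range _ hcomm hpow
      (by rw [SFTCor.card_inr_range]; exact hrank) ?_ le_normalizer_of_normal ?_
    · rw [SFTCor.card_inl_range]; exact h.cop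
    · rintro _ ⟨a, rfl⟩ hb1
      haveI := hC a (fun e => hb1 (by rw [e, map_one]))
      haveI : Group.IsSolvable ((fx φ a).map (SemidirectProduct.inl : G →* G ⋊[φ] A)) :=
        Group.isSolvable_of_surjective (f := (SemidirectProduct.inl : G →* G ⋊[φ] A).subgroupMap (fx φ a))
          ((SemidirectProduct.inl : G →* G ⋊[φ] A).subgroupMap_surjective _)
      have hle : (SemidirectProduct.inl : G →* G ⋊[φ] A).range ⊓
          centralizer {(SemidirectProduct.inr a : G ⋊[φ] A)} ≤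
          (fx φ a).map (SemidirectProduct.inl : G →* G ⋊[φ] A) := by
        rintro _ ⟨⟨x, rfl⟩, hx⟩
        refine ⟨x, ?_, rfl⟩
        show φ a x = x
        have hh := (mem_centralizer_singleton_iff.1 hx : _ * _ = _ * _)
        refine SemidirectProduct.inl_injective (φ := φ) ?_
        rw [SemidirectProduct.inl_aut, ← hh, mul_assoc, ← map_mul, mul_inv_cancel, map_one, mul_one]
      exact Group.isSolvable_of_isSolvable_injective (inclusion_injective hle)
  exact Group.isSolvable_of_isSolvable_injective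
    (f := (SemidirectProduct.inl : G →* G ⋊[φ] A).rangeRestrict)
    (fun _ _ e => SemidirectProduct.inl_injective (congrArg Subtype.val e))

end Finite

/-- The two statements. -/
theorem lowerCentral_class [Finite A] [Finite G] [Fact p.Prime] (h : Hyp (G := G) (A := A) p)
    (φ : A →* MulAut G) {k c : ℕ} (hk : 3 ≤ k) (hA : Nat.card A = p ^ k)
    (hC : ∀ a : A, a ≠ 1 → ((fx φ a).lowerCentralSeries (k - 3)).lowerCentralSeries c = ⊥) :
    ((⊤ : Subgroup G).lowerCentralSeries (k - 3)).lowerCentralSeries (classBound p (Nat.card A) c) = ⊥ := by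
  have hsol : Group.IsSolvable G := by
    refine isSolvable_of_fixed (φ := φ) h (hA ▸ Nat.pow_le_pow_right h.prime.pos hk) fun a ha => ?_
    have key : ∀ i, derivedSeries (fx φ a) i ≤ (⊤ : Subgroup (fx φ a)).lowerCentralSeries i := fun i =>
      dcom_top (G := fx φ a) i ▸ (dcom_le_lcs ⊤ i).1
    refine ⟨⟨(k - 3) + c, ?_⟩⟩
    rw [← dcom_top, dcom_add, dcom_top, eq_bot_iff]
    refine map_le_map_iff_of_injective (fx φ a).subtype_injective |>.1 ?_
    rw [Subgroup.map_bot, ← hC a ha, dcom_map]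
    refine (dcom_le_lcs _ c).1.trans (lcs_mono ?_ c)
    refine (Subgroup.map_mono (key (k - 3))).trans ?_
    rw [map_lowerCentralSeries, ← MonoidHom.range_eq_map, range_subtype]
  refine class_of_family (φ := φ) h _ (inv_of_characteristic φ _) (SpL φ p (k - 3))
    (fun a => (fx φ a).lowerCentralSeries (k - 3)) (SpL.gen h _) (fun U hU => SpL.basic hU)
    (fun U hU => ?_) (fun U V hU hV H hH => ?_)
    (fun a ha => ⟨(Subgroup.lowerCentralSeries_antitone _ (Nat.zero_le _)).trans le_rfl, hC a ha,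
      fun g hg x hx => conj_mem_lcs _ _ hg hx⟩)
  · obtain ⟨B, hB, hBU⟩ := SpL.rank hU
    refine ⟨B, ?_, fun a ha _ => hBU a ha⟩
    rw [hA, show k = k - 3 + 1 + 2 by omega, pow_add] at hB
    exact Nat.le_of_mul_le_mul_left (by simpa using hB) (pow_pos h.prime.pos _)
  · obtain ⟨H', hH', hle⟩ := (SpL.basic hV).2
    obtain ⟨W, hW, hle'⟩ := SpL.mono (φ := φ) (p := p) (U := ⁅U, fxAll φ H'⁆ ⊓ fxAll φ H)
      ⟨U, H', H, hU, hH', hH, rfl⟩
    exact ⟨W, hW, (inf_le_inf_right _ (commutator_mono le_rfl hle)).trans hle'⟩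

theorem derived_class [Finite A] [Finite G] [Fact p.Prime] (h : Hyp (G := G) (A := A) p)
    (φ : A →* MulAut G) {k c d : ℕ} (hk : 3 ≤ k) (hd : 2 ^ d + 2 ≤ k) (hA : Nat.card A = p ^ k)
    (hC : ∀ a : A, a ≠ 1 → (dcom (fx φ a) d).lowerCentralSeries c = ⊥) :
    (derivedSeries G d).lowerCentralSeries (classBound p (Nat.card A) c) = ⊥ := by
  have hsol : Group.IsSolvable G := by
    refine isSolvable_of_fixed (φ := φ) h (hA ▸ Nat.pow_le_pow_right h.prime.pos hk) fun a ha => ?_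
    refine ⟨⟨d + c, ?_⟩⟩
    rw [← dcom_top, eq_bot_iff]
    refine map_le_map_iff_of_injective (fx φ a).subtype_injective |>.1 ?_
    rw [Subgroup.map_bot, ← hC a ha, dcom_map, ← MonoidHom.range_eq_map, range_subtype, dcom_add]
    exact (dcom_le_lcs _ c).1
  haveI : (derivedSeries G d).Characteristic := derivedSeries_characteristic G d
  refine class_of_family (φ := φ) h _ (inv_of_characteristic φ _) (SpD φ p d)
    (fun a => dcom (fx φ a) d) (SpD.gen h _) (fun U hU => SpD.basic hU)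
    (fun U hU => ?_) (fun U V hU hV H hH => ?_)
    (fun a ha => ⟨(dcom_le_lcs _ d).2, hC a ha, fun g hg x hx => conj_mem_dcom _ _ hg hx⟩)
  · obtain ⟨B, hB, hBU⟩ := SpD.rank hU
    refine ⟨B, ?_, fun a ha _ => hBU a ha⟩
    obtain ⟨r, rfl⟩ := Nat.exists_eq_add_of_le hd
    rw [hA, add_assoc, pow_add] at hB
    exact (Nat.pow_le_pow_right h.prime.pos (by omega)).trans
      (Nat.le_of_mul_le_mul_left hB (pow_pos h.prime.pos _))
  · exact SpD.mono ⟨U, V, H, hU, hV, hH, rfl⟩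

end CfsgLib.CentClass
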