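import Cfsg.Agent.CentClass.Action
import Mathlib.Algebra.CharP.Lemmas
import Mathlib.GroupTheory.PGroup
import Mathlib.GroupTheory.Solvable
import Mathlib.GroupTheory.Sylow

/-!
# Nilpotency of a soluble group generated by elements in nilpotent normal subgroups of centralizers
-/

set_option autoImplicit false
set_option linter.unusedSectionVars false
set_option linter.style.haveILetI false

namespace CfsgLib.CentClass

open Subgroup
open scoped commutatorElement

universe u v

section Basics

variable {G : Type u} [Group G] {A : Type v} [CommGroup A] (φ : A →* MulAut G)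

/-- The induced action on a quotient. -/
noncomputable def quotAct (V : Subgroup G) [V.Normal] (hV : Inv φ V) : A →* MulAut (G ⧸ V) where
  toFun a := QuotientGroup.congr V V (φ a) (by
    refine le_antisymm (map_le_iff_le_comap.2 fun x hx => hV a x hx) fun x hx => ?_
    refine ⟨φ a⁻¹ x, hV a⁻¹ x hx, ?_⟩
    show φ a (φ a⁻¹ x) = x
    rw [← MulAut.mul_apply, ← map_mul, mul_inv_cancel, map_one, MulAut.one_apply])
  map_one' := MulEquiv.ext fun x => by
    obtain ⟨g, rfl⟩ := QuotientGroup.mk_surjective x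
    show ((φ 1 g : G) : G ⧸ V) = (g : G ⧸ V)
    rw [map_one, MulAut.one_apply]
  map_mul' a b := MulEquiv.ext fun x => by
    obtain ⟨g, rfl⟩ := QuotientGroup.mk_surjective x
    show ((φ (a * b) g : G) : G ⧸ V) = ((φ a (φ b g) : G) : G ⧸ V)
    rw [map_mul, MulAut.mul_apply]

theorem quotAct_mk (V : Subgroup G) [V.Normal] (hV : Inv φ V) (a : A) (g : G) :
    quotAct φ V hV a g = ((φ a g : G) : G ⧸ V) := rfl

/-- A nontrivial soluble finite group has a characteristic elementary abelian subgroup. -/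
theorem exists_char_elementary [Finite G] [Group.IsSolvable G] [Nontrivial G] :
    ∃ (q : ℕ) (M : Subgroup G), q.Prime ∧ M.Characteristic ∧ M ≠ ⊥ ∧
      (∀ x ∈ M, ∀ y ∈ M, x * y = y * x) ∧ ∀ x ∈ M, x ^ q = 1 := by
  classical
  have hex : ∃ n, derivedSeries G n = ⊥ := Group.IsSolvable.solvable
  have h0 : Nat.find hex ≠ 0 := fun h => by
    have := Nat.find_spec hex
    rw [h, derivedSeries_zero] at this
    exact bot_ne_top this.symm
  obtain ⟨n, hn⟩ := Nat.exists_eq_succ_of_ne_zero h0
  set D := derivedSeries G n with hD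
  have hD1 : D ≠ ⊥ := Nat.find_min hex (by omega)
  have hcomm : ∀ x ∈ D, ∀ y ∈ D, x * y = y * x := fun x hx y hy => by
    have h : ⁅D, D⁆ = ⊥ := by
      have := Nat.find_spec hex
      rwa [hn, derivedSeries_succ] at this
    exact commutatorElement_eq_one_iff_mul_comm.1 (mem_bot.1 (h ▸ commutator_mem_commutator hx hy))
  obtain ⟨q, hq, hqd⟩ := Nat.exists_prime_and_dvd (one_lt_card_iff_ne_bot D |>.2 hD1).ne'
  haveI := Fact.mk hq
  let M : Subgroup G :=
    { carrier := {x | x ∈ D ∧ x ^ q = 1}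
      one_mem' := ⟨one_mem _, one_pow q⟩
      mul_mem' := fun {x y} hx hy => ⟨mul_mem hx.1 hy.1, by
        rw [(show Commute x y from hcomm x hx.1 y hy.1).mul_pow, hx.2, hy.2, one_mul]⟩
      inv_mem' := fun {x} hx => ⟨inv_mem hx.1, by rw [inv_pow, hx.2, inv_one]⟩ }
  refine ⟨q, M, hq, ?_, ?_, fun x hx y hy => hcomm x hx.1 y hy.1, fun x hx => hx.2⟩
  · refine characteristic_iff_map_le.2 fun e => ?_
    rintro _ ⟨x, hx, rfl⟩
    exact ⟨characteristic_iff_map_le.1 (derivedSeries_characteristic G n) e ⟨x, hx.1, rfl⟩, by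
      show (e x) ^ q = 1
      rw [← map_pow, hx.2, map_one]⟩
  · obtain ⟨y, hy⟩ := exists_prime_orderOf_dvd_card' q hqd
    intro hM
    have : (y : G) ∈ M := ⟨y.2, by rw [← coe_pow, ← hy, pow_orderOf_eq_one, coe_one]⟩
    rw [hM, mem_bot] at this
    rw [orderOf_eq_one_iff.2 (Subtype.ext this)] at hy
    exact hq.one_lt.ne hy

end Basics

/-- The data for the nilpotency criterion. -/
structure EngelData {G : Type u} [Group G] {A : Type v} [CommGroup A] (φ : A →* MulAut G) (p c : ℕ)
    (N : A → Subgroup G) : Prop where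
  hyp : Hyp (G := G) (A := A) p
  le_fx : ∀ a, a ≠ 1 → N a ≤ fx φ a
  conj : ∀ a, a ≠ 1 → ∀ g ∈ fx φ a, ∀ x ∈ N a, g * x * g⁻¹ ∈ N a
  cls : ∀ a, a ≠ 1 → (N a).lowerCentralSeries c = ⊥
  gen : closure {x | ∃ B : Subgroup A, p ^ 2 ≤ Nat.card B ∧ ∀ a ∈ B, a ≠ 1 → x ∈ N a} = ⊤

theorem EngelData.quot {G : Type u} [Group G] [Finite G] {A : Type v} [CommGroup A] [Finite A]
    {φ : A →* MulAut G} {p c : ℕ} {N : A → Subgroup G} (h : EngelData φ p c N) (V : Subgroup G)
    [V.Normal] (hV : Inv φ V) :
    EngelData (quotAct φ V hV) p c fun a => (N a).map (QuotientGroup.mk' V) := by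
  refine ⟨⟨h.hyp.prime, h.hyp.exp, h.hyp.cop.coprime_dvd_left ?_⟩, fun a ha => ?_,
    fun a ha g hg x hx => ?_, fun a ha => ?_, ?_⟩
  · exact ⟨Nat.card V, (card_eq_card_quotient_mul_card_subgroup V)⟩
  · rintro _ ⟨x, hx, rfl⟩
    show quotAct φ V hV a (x : G ⧸ V) = x
    rw [quotAct_mk, (show φ a x = x from h.le_fx a ha hx)]
  · obtain ⟨x, hx', rfl⟩ := hx
    obtain ⟨g, rfl⟩ := QuotientGroup.mk_surjective g
    obtain ⟨g', hg', hgg⟩ := exists_fixed_in_coset_one (φ := φ) h.hyp hV g a
      (QuotientGroup.eq.1 (show ((g : G) : G ⧸ V) = ((φ a g : G) : G ⧸ V) from hg.symm))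
    rw [QuotientGroup.eq.2 hgg]
    exact ⟨g' * x * g'⁻¹, h.conj a ha g' hg' x hx', by simp⟩
  · rw [← map_lowerCentralSeries, h.cls a ha, Subgroup.map_bot]
  · rw [eq_top_iff, ← map_top_of_surjective _ (QuotientGroup.mk'_surjective V), ← h.gen,
      MonoidHom.map_closure]
    refine closure_mono ?_
    rintro _ ⟨x, ⟨B, hB, hxB⟩, rfl⟩
    exact ⟨B, hB, fun a ha ha1 => mem_map_of_mem _ (hxB a ha ha1)⟩

/-- Elements in nilpotent normal subgroups of all centralizers act unipotently on invariant abelian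
normal subgroups. -/
theorem EngelData.pow_centralizes {G : Type u} [Group G] [Finite G] {A : Type v} [CommGroup A]
    [Finite A] {φ : A →* MulAut G} {p c : ℕ} {N : A → Subgroup G} (h : EngelData φ p c N)
    {M : Subgroup G} [M.Normal] (hM : Inv φ M) (hM1 : M ≠ ⊥)
    (hcomm : ∀ x ∈ M, ∀ y ∈ M, x * y = y * x)
    {q : ℕ} (hq : q.Prime) (hexp : ∀ x ∈ M, x ^ q = 1) {B : Subgroup A} (hB : p ^ 2 ≤ Nat.card B)
    {x : G} (hx : ∀ a ∈ B, a ≠ 1 → x ∈ N a) :
    ∃ j, (MulAut.conjNormal (H := M) x) ^ q ^ j = 1 := by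
  letI : CommGroup M := { (inferInstance : Group M) with
    mul_comm := fun y z => Subtype.ext (hcomm _ y.2 _ z.2) }
  haveI := Fact.mk hq
  haveI : Nontrivial M := (nontrivial_iff_ne_bot M).2 hM1
  haveI : Nontrivial (AddMonoid.End (Additive M)) := by
    obtain ⟨u, hu⟩ := exists_ne (0 : Additive M)
    exact ⟨⟨1, 0, fun he => hu (DFunLike.congr_fun he u)⟩⟩
  haveI : CharP (AddMonoid.End (Additive M)) q := by
    refine (CharP.charP_iff_prime_eq_zero hq).2 ?_
    refine DFunLike.ext _ _ fun v => ?_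
    show ((q : AddMonoid.End (Additive M)) v) = 0
    rw [AddMonoid.End.natCast_apply]
    exact Additive.toMul.injective (by
      rw [toMul_nsmul, toMul_zero]
      exact Subtype.ext (by simpa using hexp _ v.toMul.2))
  let τ : AddMonoid.End (Additive M) := MonoidHom.toAdditive (MulAut.conjNormal (H := M) x).toMonoidHom
  set δ : AddMonoid.End (Additive M) := 1 - τ with hδ
  -- the group commutator with `x`
  have hδv : ∀ v : Additive M, (((δ v).toMul : M) : G) = ⁅((v.toMul : M) : G), x⁆ := by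
    intro v
    show (((v - τ v).toMul : M) : G) = _
    rw [toMul_sub, coe_div]
    show ((v.toMul : M) : G) / ((MulAut.conjNormal x v.toMul : M) : G) = _
    rw [MulAut.conjNormal_apply, div_eq_mul_inv, commutatorElement_def]
    group
  have hchain : ∀ a ∈ B, a ≠ 1 → ∀ v : Additive M, φ a ((v.toMul : M) : G) = ((v.toMul : M) : G) →
      ∀ i, (((δ ^ (i + 1)) v).toMul : G) ∈ (N a).lowerCentralSeries i := by
    intro a ha ha1 v hv i
    induction i with
    | zero =>
      rw [zero_add, pow_one, hδv]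
      show ⁅((v.toMul : M) : G), x⁆ ∈ N a
      rw [commutatorElement_def]
      exact mul_mem (h.conj a ha1 _ hv x (hx a ha ha1)) (inv_mem (hx a ha ha1))
    | succ i ih =>
      rw [pow_succ' δ (i + 1)]
      show (((δ ((δ ^ (i + 1)) v)).toMul : M) : G) ∈ _
      rw [hδv]
      exact commutator_mem_commutator ih (hx a ha ha1)
  have hzero : δ ^ (c + 1) = 0 := by
    refine DFunLike.ext _ _ fun v => ?_
    obtain ⟨⟨m, hm⟩, rfl⟩ := Additive.ofMul.surjective v
    let S : Subgroup G :=
      { carrier := {g | ∃ hg : g ∈ M, (δ ^ (c + 1)) (Additive.ofMul (⟨g, hg⟩ : M)) = 0}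
        one_mem' := ⟨one_mem _, map_zero (δ ^ (c + 1))⟩
        mul_mem' := by
          rintro g₁ g₂ ⟨h₁, e₁⟩ ⟨h₂, e₂⟩
          refine ⟨mul_mem h₁ h₂, ?_⟩
          have := map_add (δ ^ (c + 1)) (Additive.ofMul (⟨g₁, h₁⟩ : M)) (Additive.ofMul (⟨g₂, h₂⟩ : M))
          rw [e₁, e₂, add_zero] at this
          exact this
        inv_mem' := by
          rintro g₁ ⟨h₁, e₁⟩
          refine ⟨inv_mem h₁, ?_⟩
          have := map_neg (δ ^ (c + 1)) (Additive.ofMul (⟨g₁, h₁⟩ : M))
          rw [e₁, neg_zero] at this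
          exact this }
    have hle : M ≤ S := (h.hyp.le_closure_of_rank_two (fun b _ => hM b) hB).trans ((closure_le _).2 (by
      rintro g ⟨hg, a, ha, ha1, hga⟩
      refine ⟨hg, ?_⟩
      have hc := hchain a ha ha1 (Additive.ofMul (⟨g, hg⟩ : M)) hga c
      rw [h.cls a ha1, mem_bot] at hc
      exact Additive.toMul.injective (Subtype.ext hc)))
    obtain ⟨_, he⟩ := hle hm
    exact he
  refine ⟨c + 1, ?_⟩
  have h1 : τ ^ q ^ (c + 1) = 1 := by
    have hle : c + 1 ≤ q ^ (c + 1) := (Nat.lt_pow_self hq.one_lt).le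
    have h2 : δ ^ q ^ (c + 1) = 0 := pow_eq_zero_of_le hle hzero
    rw [hδ, sub_pow_char_pow_of_commute q (c + 1) (Commute.one_left τ),
      one_pow, sub_eq_zero] at h2
    exact h2.symm
  refine MulEquiv.ext fun m => ?_
  have h3 : ∀ n : ℕ, (τ ^ n) (Additive.ofMul m) =
      Additive.ofMul (((MulAut.conjNormal (H := M) x) ^ n) m) := by
    intro n
    induction n with
    | zero => rfl
    | succ n ih =>
      rw [pow_succ' τ n, pow_succ' _ n]
      show τ ((τ ^ n) (Additive.ofMul m)) = _
      rw [ih]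
      rfl
  have h4 := h3 (q ^ (c + 1))
  rw [h1] at h4
  exact (Additive.ofMul.injective h4).symm

/-- A soluble group generated by such elements is nilpotent. -/
theorem EngelData.isNilpotent : ∀ {G : Type u} [Group G] [Finite G] [Group.IsSolvable G]
    {A : Type v} [CommGroup A] [Finite A] {φ : A →* MulAut G} {p c : ℕ} {N : A → Subgroup G},
    EngelData φ p c N → Group.IsNilpotent G := by
  intro G _ _ _
  induction hn : Nat.card G using Nat.strong_induction_on generalizing G with
  | _ n IH =>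
  intro A _ _ φ p c N h
  rcases subsingleton_or_nontrivial G with hG | hG
  · exact Group.isNilpotent_of_subsingleton
  obtain ⟨q, M, hq, hMc, hM1, hcomm, hexp⟩ := exists_char_elementary (G := G)
  haveI := hMc
  haveI : M.Normal := normal_of_characteristic M
  haveI := Fact.mk hq
  have hMi : Inv φ M := inv_of_characteristic φ M
  have IH' : ∀ (V : Subgroup G) [V.Normal], Inv φ V → V ≠ ⊥ → Group.IsNilpotent (G ⧸ V) := by
    intro V _ hV hV1
    refine IH (Nat.card (G ⧸ V)) ?_ (G := G ⧸ V) rfl (h.quot V hV)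
    rw [← hn, card_eq_card_quotient_mul_card_subgroup V]
    exact lt_mul_of_one_lt_right Nat.card_pos ((one_lt_card_iff_ne_bot V).2 hV1)
  -- the image of `G` in `Aut M` is a `q`-group
  set f : G →* MulAut M := MulAut.conjNormal (H := M) with hf
  have hker : M ≤ f.ker := fun m hm => MulEquiv.ext fun y => Subtype.ext (by
    rw [hf, MulAut.conjNormal_apply, MulAut.one_apply, hcomm m hm y y.2, mul_inv_cancel_right])
  let g : G ⧸ M →* MulAut M := QuotientGroup.lift M f hker
  haveI := IH' M hMi hM1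
  haveI : Group.IsNilpotent g.range :=
    Group.nilpotent_of_surjective g.rangeRestrict g.rangeRestrict_surjective
  obtain ⟨P⟩ : Nonempty (Sylow q g.range) := inferInstance
  haveI : (P : Subgroup g.range).Normal :=
    Sylow.normal_of_normalizerCondition Group.normalizerCondition_of_isNilpotent P
  have hrange : IsPGroup q g.range := by
    have htop : (P : Subgroup g.range) = ⊤ := by
      rw [eq_top_iff]
      rintro ⟨_, y, rfl⟩ -
      obtain ⟨y, rfl⟩ := QuotientGroup.mk_surjective y
      let T : Subgroup G := (P : Subgroup g.range).comap (g.rangeRestrict.comp (QuotientGroup.mk' M))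
      have hle : (⊤ : Subgroup G) ≤ T := h.gen ▸ (closure_le _).2 fun x ⟨B, hB, hxB⟩ => by
        obtain ⟨j, hj⟩ := h.pow_centralizes hMi hM1 hcomm hq hexp hB hxB
        show g.rangeRestrict (x : G ⧸ M) ∈ (P : Subgroup g.range)
        have hz : IsPGroup q (zpowers (g.rangeRestrict (x : G ⧸ M))) := by
          intro z
          refine ⟨j, Subtype.ext ?_⟩
          obtain ⟨i, hi⟩ := mem_zpowers_iff.1 z.2
          rw [coe_pow, ← hi, ← zpow_natCast, ← zpow_mul, mul_comm, zpow_mul, zpow_natCast]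
          have : g.rangeRestrict (x : G ⧸ M) ^ q ^ j = 1 := Subtype.ext hj
          rw [this, one_zpow]
          rfl
        obtain ⟨P', hP'⟩ := hz.exists_le_sylow
        have : P' = P := by
          haveI := Sylow.unique_of_normal P inferInstance
          exact Subsingleton.elim _ _
        exact this ▸ hP' (mem_zpowers _)
      exact hle (mem_top y)
    exact (htop ▸ P.isPGroup').of_equiv topEquiv
  -- fixed points
  letI : MulDistribMulAction g.range M :=
    MulDistribMulAction.compHom M g.range.subtype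
  have hdvd : q ∣ Nat.card M := by
    haveI : Nontrivial M := (nontrivial_iff_ne_bot M).2 hM1
    obtain ⟨k, hk0, hk⟩ := (show IsPGroup q M from fun y => ⟨1, Subtype.ext (by simpa using hexp y y.2)⟩)
      |>.nontrivial_iff_card.1 inferInstance
    exact hk ▸ dvd_pow_self q (by omega)
  obtain ⟨z, hz, hz1⟩ := hrange.exists_fixed_point_of_prime_dvd_card_of_fixed_point M hdvd
    (a := (1 : M)) (fun γ => smul_one γ)
  set V : Subgroup G := M ⊓ center G with hV
  have hV1 : V ≠ ⊥ := fun hbot => by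
    have hzV : (z : G) ∈ V := ⟨z.2, mem_center_iff.2 fun y => by
      have h1 := congrArg Subtype.val (hz ⟨g (y : G ⧸ M), _, rfl⟩)
      change ((f y z : M) : G) = z at h1
      rw [hf, MulAut.conjNormal_apply] at h1
      exact mul_inv_eq_iff_eq_mul.1 h1⟩
    rw [hbot, mem_bot] at hzV
    exact hz1 (Subtype.ext hzV.symm)
  haveI := IH' V (hMi.inf φ (inv_of_characteristic φ _)) hV1
  exact Subgroup.isNilpotent_of_ker_le_center (QuotientGroup.mk' V)
    (by rw [QuotientGroup.ker_mk']; exact inf_le_right)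

end CfsgLib.CentClass
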